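import Groth.Agent.EtDepth.K176.DeltaT
import Groth.Agent.EtCd.K549.ClosDim
import Groth.Agent.Ega4A.CplQuot
import Groth.Agent.Ega4A.CatenaryDim
import Groth.Agent.Ega4A.CompleteCat
import Groth.Agent.Ega4A.Catenary
import Groth.Agent.S2665
import Groth.Agent.FlatA.DimFin
import Groth.Agent.S8538
import Groth.Prelude.Def_CInt
import Groth.Agent.EtDl.K555.CdStrict
import Groth.Agent.EtDl.K555.ULiftQ
import Groth.Agent.Etbc.H225.TensorSH
import Groth.Agent.ParaF.K588.SHDesc
import Groth.Agent.CalgB.RegHom6
import Groth.Agent.S2655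
import Groth.Agent.S0537
import Groth.Agent.S0538

/-!
# The dimension formula for the completion of the strict henselization

* `ring_part`: `R` Noetherian local formally catenary, `q` a prime ideal of the completion of `R`, `p = q ∩ R`:
  `dim R/p = dim R^/q + (ht q - ht p)`;
* `ring_part'`: the same for `A → R → R^`, `A → R` integral and flat;
* `dim_eq`: for `f : L ⟶ Spec A` of finite type with image in the punctured spectrum and the base change
  `L' ⟶ Spec B` (with `dim A/p = dim B/q + (ht q - ht p)` for all `q`): `dim cl(h u') = dim cl(u') + dim O_{h⁻¹(h u'), u'}`.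
-/

set_option autoImplicit false
universe u

section

open CategoryTheory Limits AlgebraicGeometry

namespace K555.FibDim

open EGA4 Groth.Agent Groth.Agent.CycB.RelDim

theorem ring_part (R : Type u) [CommRing R] [IsLocalRing R] [IsNoetherianRing R] (hR : IsFormallyCatenary R)
    (q : Ideal (Cpl R)) [q.IsPrime] (n : ℕ)
    (hn : q.height = (q.comap (algebraMap R (Cpl R))).height + n) (a b : ℕ)
    (ha : ringKrullDim (R ⧸ q.comap (algebraMap R (Cpl R))) = a) (hb : ringKrullDim (Cpl R ⧸ q) = b) :
    a = b + n := by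
  have hN : IsNoetherianRing (Cpl R) := Ega4A.CplQuot.isNoetherianRing_cpl R
  generalize hp : q.comap (algebraMap R (Cpl R)) = p at *
  have hpp : p.IsPrime := hp ▸ inferInstance
  have hlo : q.LiesOver p := ⟨hp.symm⟩
  have h1 := Ideal.height_eq_height_add_of_liesOver_of_hasGoingDown p q
  have h2 : (q.map (Ideal.Quotient.mk (p.map (algebraMap R (Cpl R))))).height = n := by
    rw [hn] at h1
    exact (ENat.add_right_injective_of_ne_top (Ideal.height_ne_top_of_isPrime (I := p)) h1).symm
  have h3 : IsEquidim (Cpl R ⧸ p.map (algebraMap R (Cpl R))) :=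
    (Ega4A.CplQuot.isFormallyEquidim_quotient_iff R p).1 (hR p)
  have hcat : CAlg.IsCatenary (Cpl R ⧸ p.map (algebraMap R (Cpl R))) :=
    Ega4A.Catenary.isCatenary_quotient _ (Ega4A.CompleteCat.isCatenary_of_isAdicComplete (Cpl R))
  have hle : p.map (algebraMap R (Cpl R)) ≤ q := by
    rw [← hp]
    exact Ideal.map_comap_le
  have hlo2 : IsLocalRing (Cpl R ⧸ p.map (algebraMap R (Cpl R))) := by
    have : Nontrivial (Cpl R ⧸ p.map (algebraMap R (Cpl R))) :=
      Ideal.Quotient.nontrivial_iff.mpr (ne_top_of_le_ne_top (Ideal.IsPrime.ne_top inferInstance) hle)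
    exact IsLocalRing.of_surjective' (Ideal.Quotient.mk _) Ideal.Quotient.mk_surjective
  have hqp : (q.map (Ideal.Quotient.mk (p.map (algebraMap R (Cpl R))))).IsPrime :=
    Ideal.map_isPrime_of_surjective Ideal.Quotient.mk_surjective (by rwa [Ideal.mk_ker])
  have h4 := Ega4A.CatenaryDim.height_add_ringKrullDim_quotient hcat h3
    (q.map (Ideal.Quotient.mk (p.map (algebraMap R (Cpl R)))))
  rw [h2, ringKrullDim_eq_of_ringEquiv (DoubleQuot.quotQuotEquivQuotOfLE hle), hb,
    Ega4A.CplQuot.ringKrullDim_cpl_quotient_map, ha] at h4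
  have h5 : n + b = a := by exact_mod_cast h4
  omega

theorem height_comap_eq (A R : Type u) [CommRing A] [CommRing R] [IsNoetherianRing A] [IsNoetherianRing R]
    [Algebra A R] [Algebra.IsIntegral A R] [Module.Flat A R] (P : Ideal R) [P.IsPrime] :
    P.height = (P.comap (algebraMap A R)).height := by
  refine le_antisymm (S2665.height_le_height_comap P) ?_
  have hlo : P.LiesOver (P.comap (algebraMap A R)) := ⟨rfl⟩
  rw [Ideal.height_eq_height_add_of_liesOver_of_hasGoingDown (P.comap (algebraMap A R)) P]
  exact le_self_add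

theorem ringKrullDim_quotient_comap (A R : Type u) [CommRing A] [CommRing R] [Algebra A R]
    [Algebra.IsIntegral A R] (P : Ideal R) :
    ringKrullDim (A ⧸ P.comap (algebraMap A R)) = ringKrullDim (R ⧸ P) := by
  have h1 : Algebra.IsIntegral (A ⧸ P.comap (algebraMap A R)) (R ⧸ P) := inferInstance
  exact (FlatA.DimFin.ringKrullDim_eq_of_isIntegral_of_injective (A ⧸ P.comap (algebraMap A R)) (R ⧸ P)
    Ideal.algebraMap_quotient_injective).symm

theorem ring_part' (A R : Type u) [CommRing A] [IsNoetherianRing A] [CommRing R] [IsLocalRing R]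
    [IsNoetherianRing R] [Algebra A R] [Algebra.IsIntegral A R] [Module.Flat A R] (hR : IsFormallyCatenary R)
    (q : Ideal (Cpl R)) [q.IsPrime] (n : ℕ)
    (hn : q.height = (q.comap ((algebraMap R (Cpl R)).comp (algebraMap A R))).height + n) (a b : ℕ)
    (ha : ringKrullDim (A ⧸ q.comap ((algebraMap R (Cpl R)).comp (algebraMap A R))) = a)
    (hb : ringKrullDim (Cpl R ⧸ q) = b) : a = b + n := by
  rw [← Ideal.comap_comap] at ha hn
  rw [ringKrullDim_quotient_comap] at ha
  rw [← height_comap_eq] at hn
  exact ring_part R hR q n hn a b ha hb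

section Scheme

/-- The closure of a point of a scheme of finite type over the punctured spectrum has finite dimension. -/
theorem exists_dim_closure {A : Type u} [CommRing A] [IsNoetherianRing A] [IsLocalRing A]
    (hA : CAlg.IsUniversallyCatenary A) {X : Scheme.{u}} (f : X ⟶ Spec (CommRingCat.of A))
    [LocallyOfFiniteType f] [QuasiCompact f] (hcl : ∀ x, f x ≠ K549.ClosDim.cp A) (x : X) :
    ∃ d a b : ℕ, topologicalKrullDim ↥(closure ({x} : Set X)) = d ∧ ringKrullDim (A ⧸ (f x).asIdeal) = a ∧
      rtd f x = b ∧ d + 1 = a + b := by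
  have hf : (f x).asIdeal.IsPrime := (f x).isPrime
  have hl : IsLocalRing (A ⧸ (f x).asIdeal) :=
    IsLocalRing.of_surjective' (Ideal.Quotient.mk _) Ideal.Quotient.mk_surjective
  obtain ⟨a, ha⟩ := K176.DeltaT.exists_dim (A ⧸ (f x).asIdeal)
  obtain ⟨b, hb⟩ := Cardinal.lt_aleph0.1 (rtd_lt_aleph0 f x)
  obtain ⟨Z, i, hi, hZ, hη, hr⟩ := CycA.ClosurePt.exists_closure_subscheme x
  have hg : (i ≫ f) (genericPoint Z) = f x := by rw [Scheme.Hom.comp_apply, hη]
  have hb' : rtd (i ≫ f) (genericPoint Z) = b := by
    rw [rtd_comp, rtd_eq_zero_of_isPreimmersion i, add_zero, hη]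
    exact hb
  have ha' : ringKrullDim (A ⧸ ((i ≫ f) (genericPoint Z)).asIdeal) = a := by
    rw [hg]; exact ha
  obtain ⟨d, hd, hd'⟩ := (K549.ClosDim.main hA (i ≫ f) a b ha' hb').2 (fun z hz => hcl (i z) (by
    rwa [Scheme.Hom.comp_apply] at hz))
  refine ⟨d, a, b, ?_, ha, hb, hd'⟩
  rw [← hr, ← hd]
  exact (IsHomeomorph.topologicalKrullDim_eq _ i.isEmbedding.toHomeomorph.isHomeomorph).symm

variable {A B : Type u} [CommRing A] [IsLocalRing A] [IsNoetherianRing A] [CommRing B] [IsLocalRing B]
  [IsNoetherianRing B] [Algebra A B] [Module.Flat A B]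

/-- **The dimension formula.** -/
theorem dim_eq (hA : CAlg.IsUniversallyCatenary A) (hB : CAlg.IsUniversallyCatenary B)
    (hAB : ∀ (q : Ideal B) [q.IsPrime] (n : ℕ), q.height = (q.comap (algebraMap A B)).height + n →
      ∀ a b : ℕ, ringKrullDim (A ⧸ q.comap (algebraMap A B)) = a → ringKrullDim (B ⧸ q) = b → a = b + n)
    {L L' : Scheme.{u}} (f : L ⟶ Spec (CommRingCat.of A)) [LocallyOfFiniteType f] [QuasiCompact f]
    (f' : L' ⟶ Spec (CommRingCat.of B)) (h : L' ⟶ L)
    (H : IsPullback h f' f (Spec.map (CommRingCat.ofHom (algebraMap A B))))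
    (hcl : ∀ x, f x ≠ K549.ClosDim.cp A) (hcl' : ∀ x, f' x ≠ K549.ClosDim.cp B) (u : L') :
    ∃ d d' e : ℕ, topologicalKrullDim ↥(closure ({h u} : Set L)) = d ∧
      topologicalKrullDim ↥(closure ({u} : Set L')) = d' ∧ ringKrullDim ↑(CInt.fiberStalk h u) = e ∧
      d = d' + e := by
  have hf' : LocallyOfFiniteType f' := MorphismProperty.of_isPullback H inferInstance
  have hqc : QuasiCompact f' := MorphismProperty.of_isPullback H inferInstance
  have hNL : IsLocallyNoetherian L := LocallyOfFiniteType.isLocallyNoetherian f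
  have hNL' : IsLocallyNoetherian L' := LocallyOfFiniteType.isLocallyNoetherian f'
  obtain ⟨d, a, t, hd, ha, ht, e1⟩ := exists_dim_closure hA f hcl (h u)
  obtain ⟨d', b, t', hd', hb, ht', e2⟩ := exists_dim_closure hB f' hcl' u
  have hN1 : IsNoetherianRing (L'.presheaf.stalk u) := inferInstance
  have := K176.DeltaT.noeth_fiber h u
  obtain ⟨e, he⟩ := K176.DeltaT.exists_dim ((h.fiber (h u)).presheaf.stalk (h.asFiber u))
  let g := Spec.map (CommRingCat.ofHom (algebraMap A B))
  have := K176.DeltaT.noeth_fiber g (f' u)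
  obtain ⟨n, hn⟩ := K176.DeltaT.exists_dim ((g.fiber (g (f' u))).presheaf.stalk (g.asFiber (f' u)))
  refine ⟨d, d', e, hd, hd', he, ?_⟩
  have h1 : e + t' = n + t := K176.DeltaT.fibre_part H u t t' e n ht ht' he hn
  have h2 := K176.DeltaT.height_eq A B (f' u) n hn
  have h3 : f (h u) = g (f' u) := by
    have := congrArg (fun k => k u) H.w
    exact this
  have hp : (f' u).asIdeal.IsPrime := (f' u).isPrime
  have h4 : a = b + n := hAB (f' u).asIdeal n h2 a b (by
    rw [h3] at ha
    exact ha) hb
  omega

end Scheme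

end K555.FibDim

end

/-!
# The completion of the strict henselization of an excellent henselian local ring of characteristic zero
-/

section

open CategoryTheory Limits AlgebraicGeometry IsLocalRing

namespace K555.CplSH

open EGA4 Groth.Agent

/-- Flat regular local homomorphisms `A → B` with `m_A B = m_B` and `dim A/p = dim B/q + (ht q - ht p)`. -/
structure Good (A B : Type u) [CommRing A] [IsLocalRing A] [CommRing B] [IsLocalRing B] [Algebra A B] : Prop where
  reg : CAlg.IsRegularHom A B
  loc : IsLocalHom (algebraMap A B)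
  max : (maximalIdeal A).map (algebraMap A B) = maximalIdeal B
  ucA : CAlg.IsUniversallyCatenary A
  ucB : CAlg.IsUniversallyCatenary B
  dim : ∀ (q : Ideal B) [q.IsPrime] (n : ℕ), q.height = (q.comap (algebraMap A B)).height + n →
      ∀ a b : ℕ, ringKrullDim (A ⧸ q.comap (algebraMap A B)) = a → ringKrullDim (B ⧸ q) = b → a = b + n

/-- **The completion of the strict henselization.** -/
theorem exists_good (A : Type u) [CommRing A] [IsLocalRing A] [IsNoetherianRing A] [HenselianLocalRing A]
    [Algebra ℚ A] (hA : EGA4.IsExcellent A) :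
    ∃ (B : Type u) (_ : CommRing B) (_ : IsLocalRing B) (_ : IsNoetherianRing B)
      (_ : IsAdicComplete (maximalIdeal B) B) (_ : Algebra ℚ B) (_ : IsAlgClosed (ResidueField B))
      (_ : Algebra A B), Good A B := by
  obtain ⟨R, _, _, _, _, _⟩ := Groth.Agent.S0537.result A
  have hR : EGA4.IsExcellent R := CdExc.isExcellent_strictHenselization A R hA
  have hNR : IsNoetherianRing R := hR.1
  have hs : IsSepClosed (ResidueField R) :=
    (Hensel.IsStrictHenselization.isSepClosure (R := A) (S := R)).sep_closed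
  have hint : Algebra.IsIntegral A R := Groth.Agent.Etbc.H225.TensorSH.isIntegral_of_isStrictHenselization A R
  have hregAR : CAlg.IsRegularHom A R := K588.SHDesc.isRegularHom_sh A R
  have hfl : Module.Flat A R := hregAR.1
  let B := AdicCompletion (maximalIdeal R) R
  have i1 : IsNoetherianRing B := Groth.Agent.S0543.result _ _
  have i2 : IsAdicComplete (maximalIdeal B) B := K151.AnRed.isAdicComplete_cpl R
  have hsurj : Function.Surjective (ResidueField.map (algebraMap R B)) := by
    intro x
    obtain ⟨a, ha⟩ := K151.AnRed.surjective_residue_cpl R x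
    exact ⟨residue R a, ha⟩
  have i4 : IsSepClosed (ResidueField B) := CdExc.isSepClosed_of_ringEquiv
    (RingEquiv.ofBijective (ResidueField.map (algebraMap R B)) ⟨RingHom.injective _, hsurj⟩)
  let _ : Algebra ℚ R := ((algebraMap A R).comp (algebraMap ℚ A)).toAlgebra
  have i5 : CharZero (ResidueField B) :=
    charZero_of_injective_algebraMap ((residue B).comp (algebraMap ℚ B)).injective
  have i6 : IsAlgClosed (ResidueField B) := inferInstance
  have h1 : algebraMap A B = (algebraMap R B).comp (algebraMap A R) := IsScalarTower.algebraMap_eq A R B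
  have hregRB : CAlg.IsRegularHom R B :=
    (Groth.Agent.CalgB.GRing2.isGRing_iff_of_isLocalRing R).1 hR.2.2.1
  have hloc : IsLocalHom (algebraMap R B) := inferInstance
  refine ⟨B, inferInstance, inferInstance, i1, i2, inferInstance, i6, inferInstance, ?_⟩
  exact
    { reg := Groth.Agent.CalgB.RegHom6.isRegularHom_comp hregAR hregRB
      loc := by
        rw [h1]
        exact RingHom.isLocalHom_comp (algebraMap R B) (algebraMap A R)
      max := by
        rw [h1, ← Ideal.map_map, Groth.Agent.S0538.result A R]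
        exact AdicCompletion.maximalIdeal_eq_map.symm
      ucA := hA.2.1
      ucB := Ega4A.CompleteCat.isUniversallyCatenary_of_isAdicComplete B
      dim := fun q _ n hn a b ha hb => by
        rw [h1] at hn ha
        exact FibDim.ring_part' A R (Groth.Agent.S2655.result R hR).1 q n hn a b ha hb }

end K555.CplSH

end
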