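import Groth.Agent.CalgB.RegHom7
import Groth.Agent.CalgB.RegHom6
import Groth.Agent.S9293
import Groth.Prelude.Def_EtDepth

/-!
# Regular morphisms: composition, affine schemes, base change
-/

set_option autoImplicit false
universe u

open CategoryTheory Limits AlgebraicGeometry

namespace K555.RegAff

open Groth.Agent Groth.Agent.CalgB

theorem isRegularHom_of_bijective {R S : Type u} [CommRing R] [CommRing S] (φ : R →+* S)
    (h : Function.Bijective φ) : @CAlg.IsRegularHom R _ S _ φ.toAlgebra := by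
  let _ := φ.toAlgebra
  have : IsLocalization (⊥ : Submonoid R) S := IsLocalization.of_le_isUnit_of_bijective
    (by rw [Algebra.algebraMapSubmonoid, Submonoid.map_bot]; exact bot_le) h
  exact RegHom7.isRegularHom_of_isLocalization S (⊥ : Submonoid R)

theorem isRegularHom_comp' {R S T : Type u} [CommRing R] [CommRing S] [CommRing T] [IsNoetherianRing T]
    (φ : R →+* S) (ψ : S →+* T) (h1 : @CAlg.IsRegularHom R _ S _ φ.toAlgebra)
    (h2 : @CAlg.IsRegularHom S _ T _ ψ.toAlgebra) : @CAlg.IsRegularHom R _ T _ (ψ.comp φ).toAlgebra := by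
  let _ := φ.toAlgebra
  let _ := ψ.toAlgebra
  let _ := (ψ.comp φ).toAlgebra
  have : IsScalarTower R S T := IsScalarTower.of_algebraMap_eq' rfl
  exact RegHom6.isRegularHom_comp (S := S) h1 h2

theorem isRegularMor_comp {X Y Z : Scheme.{u}} [IsLocallyNoetherian X] (f : X ⟶ Y) (g : Y ⟶ Z)
    (hf : EtDepth.IsRegularMor f) (hg : EtDepth.IsRegularMor g) : EtDepth.IsRegularMor (f ≫ g) := by
  intro x
  have h1 := isRegularHom_comp' (g.stalkMap (f x)).hom (f.stalkMap x).hom (hg (f x)) (hf x)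
  rw [Scheme.Hom.stalkMap_comp]
  exact h1

theorem isRegularMor_of_isOpenImmersion {X Y : Scheme.{u}} (f : X ⟶ Y) [IsOpenImmersion f] :
    EtDepth.IsRegularMor f := fun x =>
  isRegularHom_of_bijective _ (ConcreteCategory.bijective_of_isIso (f.stalkMap x))

theorem isRegularMor_of_appTop {X Y : Scheme.{u}} [IsAffine X] [IsAffine Y] (f : X ⟶ Y)
    (h : @CAlg.IsRegularHom Γ(Y, ⊤) _ Γ(X, ⊤) _ f.appTop.hom.toAlgebra) : EtDepth.IsRegularMor f := by
  intro x
  let _ : Algebra Γ(Y, ⊤) Γ(X, ⊤) := f.appTop.hom.toAlgebra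
  let _ := Y.presheaf.algebra_section_stalk (U := ⊤) ⟨f x, trivial⟩
  let _ := X.presheaf.algebra_section_stalk (U := ⊤) ⟨x, trivial⟩
  have hY : IsLocalization.AtPrime (Y.presheaf.stalk (f x)) ((isAffineOpen_top Y).primeIdealOf ⟨f x, trivial⟩).asIdeal :=
    (isAffineOpen_top Y).isLocalization_stalk ⟨f x, trivial⟩
  have hX : IsLocalization.AtPrime (X.presheaf.stalk x) ((isAffineOpen_top X).primeIdealOf ⟨x, trivial⟩).asIdeal :=
    (isAffineOpen_top X).isLocalization_stalk ⟨x, trivial⟩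
  let _ : Algebra (Y.presheaf.stalk (f x)) (X.presheaf.stalk x) := (f.stalkMap x).hom.toAlgebra
  let _ : Algebra Γ(Y, ⊤) (X.presheaf.stalk x) :=
    ((algebraMap Γ(X, ⊤) (X.presheaf.stalk x)).comp (algebraMap Γ(Y, ⊤) Γ(X, ⊤))).toAlgebra
  have : IsScalarTower Γ(Y, ⊤) Γ(X, ⊤) (X.presheaf.stalk x) := IsScalarTower.of_algebraMap_eq' rfl
  have : IsScalarTower Γ(Y, ⊤) (Y.presheaf.stalk (f x)) (X.presheaf.stalk x) :=
    IsScalarTower.of_algebraMap_eq' (by
      exact (congrArg CommRingCat.Hom.hom (Scheme.Hom.germ_stalkMap f ⊤ x trivial)).symm)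
  have h1 : CAlg.IsRegularHom Γ(Y, ⊤) (X.presheaf.stalk x) :=
    RegHom7.isRegularHom_localization_right (S := Γ(X, ⊤)) (X.presheaf.stalk x)
      ((isAffineOpen_top X).primeIdealOf ⟨x, trivial⟩).asIdeal.primeCompl h
  exact RegHom7.isRegularHom_localization_left (R := Γ(Y, ⊤)) (Y.presheaf.stalk (f x))
    ((isAffineOpen_top Y).primeIdealOf ⟨f x, trivial⟩).asIdeal.primeCompl h1

theorem isRegularMor_SpecMap {R S : Type u} [CommRing R] [CommRing S] [IsNoetherianRing S] (φ : R →+* S)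
    (h : @CAlg.IsRegularHom R _ S _ φ.toAlgebra) :
    EtDepth.IsRegularMor (Spec.map (CommRingCat.ofHom φ)) := by
  refine isRegularMor_of_appTop _ ?_
  have hN : IsNoetherianRing Γ(Spec (CommRingCat.of S), ⊤) :=
    isNoetherianRing_of_ringEquiv S (Scheme.ΓSpecIso (CommRingCat.of S)).symm.commRingCatIsoToRingEquiv
  have e1 : (Spec.map (CommRingCat.ofHom φ)).appTop.hom =
      ((Scheme.ΓSpecIso (CommRingCat.of S)).inv.hom.comp φ).comp (Scheme.ΓSpecIso (CommRingCat.of R)).hom.hom := by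
    have h1 : (Spec.map (CommRingCat.ofHom φ)).appTop = (Scheme.ΓSpecIso (CommRingCat.of R)).hom ≫
        CommRingCat.ofHom φ ≫ (Scheme.ΓSpecIso (CommRingCat.of S)).inv := by
      rw [← Scheme.ΓSpecIso_naturality_assoc, Iso.hom_inv_id, Category.comp_id]
    rw [h1]
    rfl
  rw [e1]
  refine isRegularHom_comp' _ _ (isRegularHom_of_bijective _ ?_) (isRegularHom_comp' _ _ h
    (isRegularHom_of_bijective _ ?_))
  · exact ConcreteCategory.bijective_of_isIso (Scheme.ΓSpecIso (CommRingCat.of R)).hom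
  · exact ConcreteCategory.bijective_of_isIso (Scheme.ΓSpecIso (CommRingCat.of S)).inv

/-- Base change of the spectrum of a regular homomorphism along a morphism of finite type with affine source. -/
theorem isRegularMor_baseChange {A B : Type u} [CommRing A] [CommRing B] [IsNoetherianRing B] [Algebra A B]
    (hAB : CAlg.IsRegularHom A B) {L L' : Scheme.{u}} [IsAffine L] (f : L ⟶ Spec (CommRingCat.of A))
    [LocallyOfFiniteType f] (f' : L' ⟶ Spec (CommRingCat.of B)) (h : L' ⟶ L)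
    (H : IsPullback h f' f (Spec.map (CommRingCat.ofHom (algebraMap A B)))) : EtDepth.IsRegularMor h := by
  let φ : A →+* Γ(L, ⊤) := ((Scheme.ΓSpecIso (CommRingCat.of A)).inv ≫ f.appTop).hom
  let _ : Algebra A Γ(L, ⊤) := φ.toAlgebra
  have hf : f = L.isoSpec.hom ≫ Spec.map (CommRingCat.ofHom (algebraMap A Γ(L, ⊤))) := by
    have h1 := Scheme.toSpecΓ_naturality f
    have h2 : Spec.map (CommRingCat.ofHom (algebraMap A Γ(L, ⊤))) =
        Spec.map f.appTop ≫ Spec.map (Scheme.ΓSpecIso (CommRingCat.of A)).inv := by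
      rw [← Spec.map_comp]
      rfl
    have h3 : (Spec (CommRingCat.of A)).toSpecΓ ≫ Spec.map (Scheme.ΓSpecIso (CommRingCat.of A)).inv = 𝟙 _ := by
      simp
    have h4 : L.isoSpec.hom = L.toSpecΓ := rfl
    rw [h2, h4, ← reassoc_of% h1, h3, Category.comp_id]
  have hft' : LocallyOfFiniteType (Spec.map (CommRingCat.ofHom (algebraMap A Γ(L, ⊤)))) := by
    have h1 : Spec.map (CommRingCat.ofHom (algebraMap A Γ(L, ⊤))) = L.isoSpec.inv ≫ f := by
      rw [hf, Iso.inv_hom_id_assoc]
    rw [h1]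
    infer_instance
  have hft : Algebra.FiniteType A Γ(L, ⊤) := by
    rw [HasRingHomProperty.Spec_iff (P := @LocallyOfFiniteType)] at hft'
    exact hft'
  have sq1 := (isPullback_SpecMap_of_isPushout _ _ _ _ (CommRingCat.isPushout_tensorProduct A Γ(L, ⊤) B))
  have sq2 : IsPullback (Spec.map (CommRingCat.ofHom (algebraMap Γ(L, ⊤) (TensorProduct A Γ(L, ⊤) B))) ≫ L.isoSpec.inv)
      (Spec.map (CommRingCat.ofHom (Algebra.TensorProduct.includeRight : B →ₐ[A] TensorProduct A Γ(L, ⊤) B).toRingHom))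
      f (Spec.map (CommRingCat.ofHom (algebraMap A B))) := by
    refine IsPullback.of_iso sq1 (Iso.refl _) L.isoSpec.symm (Iso.refl _) (Iso.refl _) ?_ ?_ ?_ ?_
    · simp
    · simp
    · rw [hf]; simp
    · simp
  let e := H.isoIsPullback _ _ sq2
  have he : e.hom ≫ (Spec.map (CommRingCat.ofHom (algebraMap Γ(L, ⊤) (TensorProduct A Γ(L, ⊤) B))) ≫ L.isoSpec.inv) = h :=
    IsPullback.isoIsPullback_hom_fst _ _ _ _
  have hNT : IsNoetherianRing (TensorProduct A Γ(L, ⊤) B) := by
    have : Algebra.FiniteType B (TensorProduct A B Γ(L, ⊤)) := inferInstance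
    have : IsNoetherianRing (TensorProduct A B Γ(L, ⊤)) := Algebra.FiniteType.isNoetherianRing B _
    exact isNoetherianRing_of_ringEquiv _ (Algebra.TensorProduct.comm A B Γ(L, ⊤)).toRingEquiv
  have hNL' : IsLocallyNoetherian L' := by
    have : LocallyOfFiniteType f' := MorphismProperty.of_isPullback H inferInstance
    exact LocallyOfFiniteType.isLocallyNoetherian f'
  rw [← he]
  refine isRegularMor_comp _ _ (isRegularMor_of_isOpenImmersion _) (isRegularMor_comp _ _
    (isRegularMor_SpecMap _ ?_) (isRegularMor_of_isOpenImmersion _))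
  have h3 := Groth.Agent.S9293.result A B Γ(L, ⊤) hAB
  have h4 : (algebraMap Γ(L, ⊤) (TensorProduct A Γ(L, ⊤) B)).toAlgebra = Algebra.TensorProduct.leftAlgebra :=
    Algebra.algebra_ext _ _ fun _ => rfl
  rw [h4]
  exact h3

end K555.RegAff
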