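import Groth.Agent.EtDepth.K555.OpenPush
import Groth.Agent.EtDepth.K555.RegAff
import Groth.Agent.EtDepth.K555.FibDim
import Groth.Agent.Etcore.LCrit
import Groth.Agent.S2651
import Groth.Agent.Sga2lef.H97.CdTop

/-!
# The base change from the punctured spectrum of `A` to the punctured spectrum of `B`
-/

set_option autoImplicit false
universe u

section

open CategoryTheory CategoryTheory.Limits AlgebraicGeometry Opposite

namespace K555.Setup

open Groth.Agent K973.Stmt K555.CplSH

/-- The local rings of schemes of finite type over excellent rings. -/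
theorem isExcellent_stalk {A : Type u} [CommRing A] (hA : EGA4.IsExcellent A) {L : Scheme.{u}}
    (f : L ⟶ Spec (CommRingCat.of A)) [LocallyOfFiniteType f] (x : L) :
    EGA4.IsExcellent (L.presheaf.stalk x) := by
  obtain ⟨U, hU, hxU, -⟩ := exists_isAffineOpen_mem_and_subset (x := x) (U := ⊤) trivial
  let _ := L.presheaf.algebra_section_stalk ⟨x, hxU⟩
  have := hU.isLocalization_stalk ⟨x, hxU⟩
  refine CdExc.isExcellent_of_isLocalization Γ(L, U) (L.presheaf.stalk x)
    (hU.primeIdealOf ⟨x, hxU⟩).asIdeal.primeCompl ?_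
  have h1 := f.finiteType_appLE (isAffineOpen_top (Spec (CommRingCat.of A))) hU (fun _ _ => trivial)
  have h2 : ((Scheme.ΓSpecIso (CommRingCat.of A)).inv.hom).FiniteType :=
    RingHom.FiniteType.of_surjective _ (ConcreteCategory.bijective_of_isIso (Scheme.ΓSpecIso (CommRingCat.of A)).inv).2
  have h3 := h1.comp h2
  algebraize [(f.appLE ⊤ U (fun _ _ => trivial)).hom.comp (Scheme.ΓSpecIso (CommRingCat.of A)).inv.hom]
  exact Groth.Agent.S2651.result A hA Γ(L, U)

/-- The structure map to the spectrum of `ℚ`. -/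
noncomputable def qA (A : Type u) [CommRing A] [Algebra ℚ A] :
    Spec (CommRingCat.of A) ⟶ Spec (CommRingCat.of (ULift.{u} ℚ)) :=
  Spec.map (CommRingCat.ofHom ((algebraMap ℚ A).comp (ULift.ringEquiv : ULift.{u} ℚ ≃+* ℚ).toRingHom))

section

variable {A B : Type u} [CommRing A] [IsLocalRing A] [IsNoetherianRing A] [CommRing B] [IsLocalRing B]
  [IsNoetherianRing B] [Algebra A B]

theorem exists_sq (hG : Good A B) :
    ∃ g' : (FEt.puncturedSpec B).toScheme ⟶ (FEt.puncturedSpec A).toScheme,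
      IsPullback g' (FEt.puncturedSpec B).ι (FEt.puncturedSpec A).ι
        (Spec.map (CommRingCat.ofHom (algebraMap A B))) := by
  rw [← Groth.Agent.Sga2lef.H101.CplDepth.preimage_punctured hG.max]
  exact ⟨_, isPullback_morphismRestrict _ _⟩

theorem comp_ι_ne (A : Type u) [CommRing A] [IsLocalRing A] {L : Scheme.{u}}
    (f : L ⟶ (FEt.puncturedSpec A).toScheme) (x : L) :
    (f ≫ (FEt.puncturedSpec A).ι) x ≠ K549.ClosDim.cp A := by
  intro h
  have h1 : (FEt.puncturedSpec A).ι (f x) ∈ FEt.puncturedSpec A := (f x).2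
  rw [← Scheme.Hom.comp_apply, h] at h1
  exact h1 rfl

variable {g' : (FEt.puncturedSpec B).toScheme ⟶ (FEt.puncturedSpec A).toScheme}
  (sq : IsPullback g' (FEt.puncturedSpec B).ι (FEt.puncturedSpec A).ι
    (Spec.map (CommRingCat.ofHom (algebraMap A B)))) {L L' : Scheme.{u}} [IsAffine L]
  {f : L ⟶ (FEt.puncturedSpec A).toScheme} [LocallyOfFiniteType f] {h : L' ⟶ L}
  {f' : L' ⟶ (FEt.puncturedSpec B).toScheme} (H : IsPullback h f' f g')

include sq H

omit [IsNoetherianRing A] [IsNoetherianRing B] [LocallyOfFiniteType f] in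
theorem isAffine_src : IsAffine L' := by
  have e := (H.paste_vert sq).isoPullback
  exact IsAffine.of_isIso e.hom

theorem isRegularMor (hG : Good A B) : EtDepth.IsRegularMor h :=
  RegAff.isRegularMor_baseChange hG.reg _ _ _ (H.paste_vert sq)

/-- **The dimension formula.** -/
theorem dim (hG : Good A B) (u : L') :
    ∃ d d' e : ℕ, topologicalKrullDim ↥(closure ({h u} : Set L)) = d ∧
      topologicalKrullDim ↥(closure ({u} : Set L')) = d' ∧ ringKrullDim ↑(CInt.fiberStalk h u) = e ∧
      d = d' + e := by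
  have hfl : Module.Flat A B := hG.reg.1
  have hqc : QuasiCompact (f ≫ (FEt.puncturedSpec A).ι) := inferInstance
  exact FibDim.dim_eq hG.ucA hG.ucB hG.dim (f ≫ (FEt.puncturedSpec A).ι) (f' ≫ (FEt.puncturedSpec B).ι) h
    (H.paste_vert sq) (comp_ι_ne A f) (comp_ι_ne B f') u

omit [IsAffine L] in
theorem isLocallyNoetherian_src : IsLocallyNoetherian L ∧ IsLocallyNoetherian L' := by
  have h1 : LocallyOfFiniteType (f' ≫ (FEt.puncturedSpec B).ι) :=
    MorphismProperty.of_isPullback (H.paste_vert sq) inferInstance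
  exact ⟨LocallyOfFiniteType.isLocallyNoetherian (f ≫ (FEt.puncturedSpec A).ι),
    LocallyOfFiniteType.isLocallyNoetherian (f' ≫ (FEt.puncturedSpec B).ι)⟩

/-- Transfer of the depth condition. -/
theorem depthOn_pull (hG : Good A B) (hA : EGA4.IsExcellent A) [Algebra ℚ A] {ℓ : ℕ} (hℓ : ℓ.Prime)
    (F : EtCoh.Ab L) (hF : EtDepth.IsLTorsion ℓ F) (W : L.Opens) (n : ℕ) (hD : DepthOn F W n) :
    DepthOn ((EtCoh.pull h).obj F) (h ⁻¹ᵁ W) n := by
  have hN := isLocallyNoetherian_src sq H
  have := hN.1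
  have := hN.2
  refine ⟨fun u hu d' hd' => ?_⟩
  obtain ⟨d, d'', e, hd, hd'', he, hde⟩ := dim sq H hG u
  obtain rfl : d'' = d' := by
    have : ((d'' : ℕ) : WithBot ℕ∞) = d' := hd''.symm.trans hd'
    exact_mod_cast this
  have h1 := hD.out (h u) hu d hd
  have h2 := DepthReg.depthAtGE_pull h u (f ≫ (FEt.puncturedSpec A).ι ≫ qA A)
    (fun s => isExcellent_stalk hA (f ≫ (FEt.puncturedSpec A).ι) s) (isRegularMor sq H hG) ℓ hℓ F hF e he _ h1
  exact Groth.Agent.Sga2lef.H134.DepthAt.DepthAtGE.mono h2 (by omega)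

end

end K555.Setup

end

/-!
# The vanishing theorem: from the completion of the strict henselization to an excellent henselian local ring
-/

section

open CategoryTheory CategoryTheory.Limits AlgebraicGeometry Opposite
attribute [local instance] HasDerivedCategory.standard

namespace K555.VanPart

open Groth.Agent K973.Stmt K555.CplSH K555.Setup K555.DescVan K555.OpenPush

variable {m : ℕ}

/-- Sheaves of `ℤ/ℓ^k`-modules are `ℓ`-torsion. -/
theorem isLTorsion_ab (hm : IsPrimePow m) {L : Scheme.{u}} (G : EtModW.Mod (Lam.{u} m) L) :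
    ∃ ℓ : ℕ, ℓ.Prime ∧ EtDepth.IsLTorsion ℓ ((EtModD.forgetToAb (Lam.{u} m) L).obj G) := by
  obtain ⟨ℓ, k, hℓ, hk, h⟩ := hm
  have hℓ' : ℓ.Prime := hℓ.nat_prime
  refine ⟨ℓ, hℓ', Groth.Agent.Sga2lef.H97.CdTop.isLTorsion_of_killedBy ℓ k _ ?_⟩
  rw [h]
  intro U s
  let s' : EtModW.sect (Lam.{u} m) G U := s
  have h1 : m • s' = 0 := by
    rw [← Nat.cast_smul_eq_nsmul (Lam.{u} m), natCast_lam, zero_smul]
  exact h1

variable {A B : Type u} [CommRing A] [IsLocalRing A] [IsNoetherianRing A] [CommRing B] [IsLocalRing B]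
  [IsNoetherianRing B] [Algebra A B]

theorem van (hG : Good A B) (hA : EGA4.IsExcellent A) [Algebra ℚ A] [HenselianLocalRing A]
    [HenselianLocalRing B] [IsSepClosed (IsLocalRing.ResidueField B)] (hm : IsPrimePow m)
    (hV : Van (FEt.puncturedSpec B : Scheme.{u}) m) : Van (FEt.puncturedSpec A : Scheme.{u}) m := by
  intro L _ f _ c W G hGc n hD
  have hQ : CharZero (ULift.{u} ℚ) := K555.ULiftQ.charZero
  have hm0 : 0 < m := hm.pos
  obtain ⟨g', sq⟩ := exists_sq hG
  have H : IsPullback (pullback.fst f g') (pullback.snd f g') f g' := IsPullback.of_hasPullback f g'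
  have hA' : IsAffine (pullback f g') := isAffine_src sq H
  obtain ⟨hN1, hN2⟩ := isLocallyNoetherian_src sq H
  have hlft : LocallyOfFiniteType (pullback.snd f g') := MorphismProperty.of_isPullback H inferInstance
  have hloc : IsLocalHom (algebraMap A B) := hG.loc
  let g : Spec (CommRingCat.of B) ⟶ Spec (CommRingCat.of A) := Spec.map (CommRingCat.ofHom (algebraMap A B))
  let c' := cptBC H c
  have hreg := isRegularMor sq H hG
  obtain ⟨ℓ, hℓ, hT⟩ := isLTorsion_ab hm G
  have hD' : DepthOn ((EtModD.forgetToAb (Lam.{u} m) _).obj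
      ((EtModW.pull (Lam.{u} m) (pullback.fst f g')).obj G)) (pullback.fst f g' ⁻¹ᵁ W) n :=
    ⟨fun u hu d hd => Groth.Agent.Sga2lef.H134.DepthAt.DepthAtGE.of_iso
      ((Etrest.ModAb.pullIso (Lam.{u} m) (pullback.fst f g')).app G).symm
      ((depthOn_pull sq H hG hA hℓ _ hT W n hD).out u hu d hd)⟩
  have hV' := hV (pullback.snd f g') c' (pullback.fst f g' ⁻¹ᵁ W)
    ((EtModW.pull (Lam.{u} m) (pullback.fst f g')).obj G)
    (Groth.Agent.Etcore.LCrit.isConstructible_pull _ G hGc) n hD'
  have hbc : Groth.Agent.EtpbcB.BCU.BCMor (Spec (CommRingCat.of (ULift.{u} ℚ))) g :=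
    (RegMor.ubc_of_isRegularHom (algebraMap A B) (by
      have h4 : (algebraMap A B).toAlgebra = (inferInstance : Algebra A B) :=
        Algebra.algebra_ext _ _ fun _ => rfl
      rw [h4]
      exact hG.reg) (qA A)).bcMor
  have hbc' : Groth.Agent.EtpbcB.BCU.BCMor (Spec (CommRingCat.of (ULift.{u} ℚ))) (pullback.fst f g') :=
    (RegMor.ubc_of_isRegularMor (pullback.fst f g') hreg (f ≫ (FEt.puncturedSpec A).ι ≫ qA A)).bcMor
  let K := (EtDl.RshriekPlus (Lam.{u} m) c).obj (openPush m W G)
  rw [← hypVanish_push_iff (FEt.puncturedSpec A).ι K n]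
  refine hypVanish_descent (algebraMap A B) _ n ?_
  let e1 := (RegPlus.bcIso (RegPlus.torBC_of_bcMor (ULift.{u} ℚ) (FEt.puncturedSpec A).ι g hbc
    (FEt.puncturedSpec B).ι g' sq) (Lam.{u} m) m hm0 (natCast_lam m)).app K
  refine hypVanish_of_iso e1.symm ?_
  refine (hypVanish_push_iff _ _ n).2 ?_
  obtain ⟨e2⟩ := K593.IndepPlus.nonempty_baseChange (Lam.{u} m) H c c' m hm0 (natCast_lam m)
  obtain ⟨e3⟩ := nonempty_pull_openPush hm0 (ULift.{u} ℚ) (pullback.fst f g') hbc' W G
  exact hypVanish_of_iso (e2.app (openPush m W G) ≪≫ (EtDl.RshriekPlus (Lam.{u} m) c').mapIso e3).symm hV'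

theorem finDepth (hG : Good A B) (hA : EGA4.IsExcellent A) [Algebra ℚ A] (hm : IsPrimePow m)
    (hV : FinDepth (FEt.puncturedSpec B : Scheme.{u}) m) : FinDepth (FEt.puncturedSpec A : Scheme.{u}) m := by
  intro L _ f _ G hGc n hD
  obtain ⟨g', sq⟩ := exists_sq hG
  have H : IsPullback (pullback.fst f g') (pullback.snd f g') f g' := IsPullback.of_hasPullback f g'
  have hA' : IsAffine (pullback f g') := isAffine_src sq H
  obtain ⟨hN1, hN2⟩ := isLocallyNoetherian_src sq H
  have hlft : LocallyOfFiniteType (pullback.snd f g') := MorphismProperty.of_isPullback H inferInstance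
  have hloc : IsLocalHom (algebraMap A B) := hG.loc
  have hfl : Module.Flat A B := hG.reg.1
  have hff : Module.FaithfullyFlat A B := Module.FaithfullyFlat.of_flat_of_isLocalHom
  let g : Spec (CommRingCat.of B) ⟶ Spec (CommRingCat.of A) := Spec.map (CommRingCat.ofHom (algebraMap A B))
  have hgs : Surjective g := ⟨PrimeSpectrum.comap_surjective_of_faithfullyFlat (A := A) (B := B)⟩
  have hhs : Surjective (pullback.fst f g') := MorphismProperty.of_isPullback (H.paste_vert sq).flip hgs
  have hreg := isRegularMor sq H hG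
  obtain ⟨ℓ, hℓ, hT⟩ := isLTorsion_ab hm G
  let F := (EtModD.forgetToAb (Lam.{u} m) L).obj G
  have hF : EtCoh.IsTorsion F := Groth.Agent.Etdl.H423.ModBasic.isTorsion_ab (Lam.{u} m) m hm.pos (natCast_lam m) G
  let eF := (Etrest.ModAb.pullIso (Lam.{u} m) (pullback.fst f g')).app G
  have hexc := fun s : L => isExcellent_stalk hA (f ≫ (FEt.puncturedSpec A).ι) s
  have hfin := hV (pullback.snd f g') ((EtModW.pull (Lam.{u} m) (pullback.fst f g')).obj G)
    (Groth.Agent.Etcore.LCrit.isConstructible_pull _ G hGc) n (fun u d' hd0 hd' => by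
      obtain ⟨d, d'', e, hd, hd'', he, hde⟩ := dim sq H hG u
      obtain rfl : d'' = d' := by
        have : ((d'' : ℕ) : WithBot ℕ∞) = d' := hd''.symm.trans hd'
        exact_mod_cast this
      have h1 := hD (pullback.fst f g' u) d (by omega) hd
      have h2 := DepthReg.depthAtGE_pull (pullback.fst f g') u (f ≫ (FEt.puncturedSpec A).ι ≫ qA A)
        hexc hreg ℓ hℓ F hT e he _ h1
      exact Groth.Agent.Sga2lef.H134.DepthAt.DepthAtGE.of_iso eF.symm
        (Groth.Agent.Sga2lef.H134.DepthAt.DepthAtGE.mono h2 (by omega)))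
  refine (hfin.image (pullback.fst f g')).subset ?_
  rintro u ⟨hu0, hu⟩
  obtain ⟨u', rfl⟩ := (pullback.fst f g').surjective u
  obtain ⟨d, d', e, hd, hd', he, hde⟩ := dim sq H hG u'
  obtain rfl : d = 0 := by
    have : ((d : ℕ) : WithBot ℕ∞) = ((0 : ℕ) : WithBot ℕ∞) := hd.symm.trans hu0
    exact_mod_cast this
  obtain rfl : d' = 0 := by omega
  obtain rfl : e = 0 := by omega
  refine ⟨u', ⟨hd', fun hu' => hu ?_⟩, rfl⟩
  exact DepthReg.depthAtGE_desc (pullback.fst f g') u' (f ≫ (FEt.puncturedSpec A).ι ≫ qA A)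
    hexc hreg F hF he n (Groth.Agent.Sga2lef.H134.DepthAt.DepthAtGE.of_iso eF hu')

/-- **NODE L2** (prime power coefficients): from complete local rings with algebraically closed residue field to
excellent henselian local rings. -/
theorem main (A : Type u) [CommRing A] [IsLocalRing A] [IsNoetherianRing A] [HenselianLocalRing A] [Algebra ℚ A]
    (hA : EGA4.IsExcellent A) (m : ℕ) (hm : IsPrimePow m) :
    (OnComplete.{u} (fun S' => Van S' m) → Van (FEt.puncturedSpec A : Scheme.{u}) m) ∧
    (OnComplete.{u} (fun S' => FinDepth S' m) → FinDepth (FEt.puncturedSpec A : Scheme.{u}) m) := by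
  obtain ⟨B, _, _, _, _, _, _, _, hG⟩ := exists_good A hA
  have i3 : HenselianLocalRing B := Groth.Agent.Pi1A.LefExt.henselianLocalRing_of_isAdicComplete _
  exact ⟨fun h => van hG hA hm (h B), fun h => finDepth hG hA hm (h B)⟩

end K555.VanPart

end
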