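import Groth.Agent.S9314
import Groth.Agent.S2038
import Groth.Agent.Pi1.H395.AdicFS
import Groth.Agent.CalgB.GRing2
import Groth.Agent.EtDl.K555.CdExc
import Groth.Agent.EtDl.K555.TwoOfThree
import Groth.Agent.EtDl.K555.ULiftQ
import Groth.Agent.EtDl.K555.RegBC
import Groth.Agent.Sga2lef.H101.LocalPurity
import Groth.Agent.Sga2lef.H107.GeomLE
import Groth.Agent.Etbc.H234.ConstDev
import Groth.Agent.EtDepth.K176.DepthAdd
import Groth.Agent.Unram17.K134.RegFib
import Groth.Agent.Flat2D.FiberStalk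
import Groth.Agent.S2743
import Groth.Agent.S0541
import Groth.Agent.Sga2lef.H134.DepthAt
import Groth.Agent.Sga2lef.H101.CplDepth

/-!
# Étale depth and regular morphisms (characteristic zero)

* `isRegularHom_strict`: regular local homomorphisms induce regular homomorphisms of strict henselizations;
* `isLocAcyclicLE_of_isRegularMor`: regular morphisms are locally acyclic;
* `depthAtGE_pull`, `depthAtGE_desc`: depth of inverse images.
-/

set_option autoImplicit false
universe u
open CategoryTheory CategoryTheory.Limits AlgebraicGeometry Opposite IsLocalRing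
open scoped TensorProduct

namespace K555.DepthReg

open Groth.Agent Groth.Agent.Etcore Groth.Agent.EtpbcB.BCU
open Groth.Agent.Etrest.StrictLoc Groth.Agent.Ega2.LACRB Groth.Agent.Sga1.UlaSL
  Groth.Agent.Sga1.UlaLoc

/-- Strict henselizations of the source and the target of a regular local homomorphism. -/
theorem isRegularHom_strict {A B A' B' : Type u} [CommRing A] [IsLocalRing A] [CommRing B] [IsLocalRing B]
    [IsNoetherianRing B] [Algebra A B] [IsLocalHom (algebraMap A B)] (hA : EGA4.IsExcellent A)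
    (h : CAlg.IsRegularHom A B)
    [CommRing A'] [IsLocalRing A'] [Algebra A A'] [IsLocalHom (algebraMap A A')]
    [Hensel.IsStrictHenselization A A'] [CommRing B'] [IsLocalRing B'] [Algebra B B']
    [IsLocalHom (algebraMap B B')] [Hensel.IsStrictHenselization B B'] (g : A' →+* B') (hg : IsLocalHom g)
    (hgc : g.comp (algebraMap A A') = (algebraMap B B').comp (algebraMap A B)) :
    @CAlg.IsRegularHom A' _ B' _ g.toAlgebra := by
  have hNA : IsNoetherianRing A := hA.1
  have hNA' : IsNoetherianRing A' := (Groth.Agent.S0540.result A A').1 hNA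
  have hNB' : IsNoetherianRing B' := (Groth.Agent.S0540.result B B').1 inferInstance
  have hfs : CAlgX.IsAdicFormallySmooth A B (maximalIdeal B) :=
    Groth.Agent.S2038.result.1 ⟨h.1, (h.2 (maximalIdeal A)).2⟩
  let f : A →+* B' := (algebraMap B B').comp (algebraMap A B)
  let _ : Algebra A' B' := g.toAlgebra
  let _ : Algebra A B' := f.toAlgebra
  have : IsLocalHom (algebraMap A' B') := hg
  have : IsScalarTower A B B' := IsScalarTower.of_algebraMap_eq' rfl
  have : IsScalarTower A A' B' := IsScalarTower.of_algebraMap_eq' hgc.symm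
  have h1 : Algebra.FormallyEtale B B' := Groth.Agent.S1962.result B B'
  have h2 : Algebra.FormallyEtale A A' := Groth.Agent.S1962.result A A'
  have h3 : CAlgX.IsAdicFormallySmooth A B' (maximalIdeal B') :=
    Groth.Agent.Pi1.H395.AdicFS.comp (Groth.Agent.S0538.result B B').le hfs
  have h4 : CAlgX.IsAdicFormallySmooth A' B' (maximalIdeal B') := Groth.Agent.Pi1.H395.AdicFS.cancel h3
  have h5 : EGA4.IsExcellent A' := K555.CdExc.isExcellent_strictHenselization A A' hA
  exact Groth.Agent.S9314.result ((Groth.Agent.CalgB.GRing2.isGRing_iff_of_isLocalRing A').1 h5.2.2.1) h4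

/-- Regular morphisms in characteristic zero are locally acyclic. -/
theorem isLocAcyclicLE_of_isRegularMor {X S : Scheme.{u}} [IsLocallyNoetherian X]
    (qS : S ⟶ Spec (CommRingCat.of (ULift.{u} ℚ))) (hexc : ∀ s : S, EGA4.IsExcellent (S.presheaf.stalk s))
    (f : X ⟶ S) (hf : EtDepth.IsRegularMor f) (ℓ : ℕ) (hℓ : ℓ.Prime) (n : ℕ) :
    EtDepth.IsLocAcyclicLE f ℓ n := by
  intro x RS RX _ _ _ _ _ _ _ _ _ _ _ hloc hc Ω _ _ _ hpfl q hq
  let _ : Algebra (S.presheaf.stalk (f.base x)) (X.presheaf.stalk x) := (f.stalkMap x).hom.toAlgebra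
  have hfx : IsLocalHom (algebraMap (S.presheaf.stalk (f.base x)) (X.presheaf.stalk x)) :=
    inferInstanceAs (IsLocalHom (f.stalkMap x).hom)
  have hNS : IsNoetherianRing (S.presheaf.stalk (f.base x)) := (hexc (f.base x)).1
  have hN1 : IsNoetherianRing RS := (Groth.Agent.S0540.result (S.presheaf.stalk (f.base x)) RS).1 hNS
  have hN2 : IsNoetherianRing RX := (Groth.Agent.S0540.result (X.presheaf.stalk x) RX).1 inferInstance
  have hh1 : HenselianLocalRing RS := Hensel.IsStrictHenselization.henselian (R := S.presheaf.stalk (f.base x))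
  have hs1 : IsSepClosed (ResidueField RS) :=
    (Hensel.IsStrictHenselization.isSepClosure (R := S.presheaf.stalk (f.base x)) (S := RS)).sep_closed
  have hh2 : HenselianLocalRing RX := Hensel.IsStrictHenselization.henselian (R := X.presheaf.stalk x)
  have hs2 : IsSepClosed (ResidueField RX) :=
    (Hensel.IsStrictHenselization.isSepClosure (R := X.presheaf.stalk x) (S := RX)).sep_closed
  have hreg : @CAlg.IsRegularHom RS _ RX _ (algebraMap RS RX).toAlgebra :=
    isRegularHom_strict (hexc (f.base x)) (hf x) (algebraMap RS RX) hloc hc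
  have hQ : CharZero (ULift.{u} ℚ) := K555.ULiftQ.charZero
  have hΩ : IsSepClosed (ResidueField Ω) := CdExc.isSepClosed_of_ringEquiv
    (RingEquiv.ofBijective (residue Ω) ⟨RingHom.injective _, residue_surjective⟩)
  let G := Spec.map (CommRingCat.ofHom (algebraMap RS RX))
  let t := Spec.map (CommRingCat.ofHom (algebraMap RS Ω))
  let t' := Spec.map (CommRingCat.ofHom (algebraMap RX (RX ⊗[RS] Ω)))
  let G' := Spec.map (CommRingCat.ofHom (Algebra.TensorProduct.includeRight : Ω →ₐ[RS] RX ⊗[RS] Ω).toRingHom)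
  have sq : IsPullback G' t' t G :=
    (isPullback_SpecMap_of_isPushout _ _ _ _ (CommRingCat.isPushout_tensorProduct RS RX Ω)).flip
  have hp' : PreservesFiniteLimits (EtCoh.pull G') := Groth.Agent.S0101.result _
  have hT : EtPBC.IsTorsionInvertibleOn (Spec (CommRingCat.of RS))
      (EtCoh.const (Spec (CommRingCat.of Ω)) (ZMod ℓ)) :=
    TwoOfThree.torInv_const _ _ (Hens2.specOf S (f.base x) RS ≫ qS) ℓ hℓ.ne_zero
  have h1 : ∀ q : ℕ, q ≤ n → Function.Bijective (EtCore.Hpull G' (EtCoh.const _ (ZMod ℓ)) q) := fun q _ =>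
    (HpullCalc.bijective_Hpull_iff _ _ _).2 (TwoOfThree.bijective_hp (algebraMap RS RX) hreg t t' G' sq _ hT q)
  have h2 : EtAcyc.IsAcyclicSchemeN {ℓ} n (Spec (CommRingCat.of (RX ⊗[RS] Ω))) :=
    Groth.Agent.Sga2lef.H107.GeomLE.isAcyclicSchemeN_of_bijective G' hℓ h1
  exact Groth.Agent.Etbc.H234.ConstDev.bijective_Hpull_constU t' h2
    (Groth.Agent.Etbc.H234.ConstDev.isAcyclicSchemeN_strictHens RX {ℓ} n) (ULift.{u + 1} (ZMod ℓ))
    (fun m => ⟨ℓ, ⟨hℓ.pos, fun p hp hpl => (Nat.prime_dvd_prime_iff_eq hp hℓ).1 hpl⟩, by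
      apply ULift.ext
      change ℓ • m.down = 0
      rw [nsmul_eq_mul, CharP.cast_eq_zero, zero_mul]⟩) q hq

section Fibre

variable {X S : Scheme.{u}} (f : X ⟶ S) (x : X)

/-- The local rings of the fibres of a regular morphism are regular. -/
theorem isRegularLocalRing_fiberStalk (hf : EtDepth.IsRegularMor f) :
    IsRegularLocalRing (CInt.fiberStalk f x) := by
  let _ : Algebra (S.presheaf.stalk (f.base x)) (X.presheaf.stalk x) := (f.stalkMap x).hom.toAlgebra
  have hfx : IsLocalHom (algebraMap (S.presheaf.stalk (f.base x)) (X.presheaf.stalk x)) :=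
    inferInstanceAs (IsLocalHom (f.stalkMap x).hom)
  have h1 : IsRegularLocalRing (EGA4.FibRing (S.presheaf.stalk (f.base x)) (X.presheaf.stalk x)) :=
    K134.RegFib.isRegularLocalRing_fibRing (hf x)
  obtain ⟨e⟩ := Flat2D.FiberStalk.nonempty_asFiber_stalkEquiv' f x
  exact IsRegularLocalRing.of_ringEquiv e

/-- Depth of the constant sheaf on the fibres of a regular morphism. -/
theorem depthAtGE_fibre (qS : S ⟶ Spec (CommRingCat.of (ULift.{u} ℚ))) (hf : EtDepth.IsRegularMor f) (ℓ : ℕ)
    (hℓ : ℓ.Prime) (e : ℕ) (he : ringKrullDim ↑(CInt.fiberStalk f x) = (e : WithBot ℕ∞))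
    (x' : ↥(f.fiber (f.base x))) (hx' : (f.fiberι (f.base x)).base x' = x) (m : ℕ) (hm : m ≤ 2 * e) :
    EtDepth.DepthAtGE (f.fiber (f.base x)) (EtCoh.const (f.fiber (f.base x)) (ZMod ℓ)) x' m := by
  obtain rfl : x' = f.asFiber x := by
    have h1 : Function.Injective (f.fiberι (f.base x)).base := (f.fiberι (f.base x)).isEmbedding.injective
    exact h1 (hx'.trans (f.fiberι_asFiber x).symm)
  intro R _ _ _ _ _
  have hreg : IsRegularLocalRing (CInt.fiberStalk f x) := isRegularLocalRing_fiberStalk f x hf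
  have hR : IsRegularLocalRing R := (Groth.Agent.S2743.result (CInt.fiberStalk f x) R).2 hreg
  have hd : ringKrullDim R = e := (Groth.Agent.S0541.result (CInt.fiberStalk f x) R).trans he
  have hQ : CharZero (ULift.{u} ℚ) := K555.ULiftQ.charZero
  let t : Spec (CommRingCat.of R) ⟶ Spec (CommRingCat.of (ULift.{u} ℚ)) :=
    Hens2.specOf _ (f.asFiber x) R ≫ f.fiberι (f.base x) ≫ f ≫ qS
  let _ : Algebra (ULift.{u} ℚ) R := (Spec.preimage t).hom.toAlgebra
  exact Sga2lef.H107.DepthSES.DepthGE.of_iso (EtCore.pullConst _ (ZMod ℓ)).symm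
    (Groth.Agent.Sga2lef.H101.LocalPurity.depthGE (ULift.{u} ℚ) R hd hℓ.ne_zero m hm)

/-- **Depth of the inverse image along a regular morphism.** -/
theorem depthAtGE_pull [IsLocallyNoetherian X] (qS : S ⟶ Spec (CommRingCat.of (ULift.{u} ℚ)))
    (hexc : ∀ s : S, EGA4.IsExcellent (S.presheaf.stalk s)) (hf : EtDepth.IsRegularMor f) (ℓ : ℕ)
    (hℓ : ℓ.Prime) (F : EtCoh.Ab S) (hF : EtDepth.IsLTorsion ℓ F) (e : ℕ)
    (he : ringKrullDim ↑(CInt.fiberStalk f x) = (e : WithBot ℕ∞)) (p : ℕ)
    (hp : EtDepth.DepthAtGE S F (f.base x) p) :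
    EtDepth.DepthAtGE X ((EtCoh.pull f).obj F) x (p + 2 * e) := by
  have h1 := K176.DepthAdd.depthAtGE f x inferInstance ℓ hℓ (p + 2 * e) p (2 * e) F hF
    (isLocAcyclicLE_of_isRegularMor qS hexc f hf ℓ hℓ _) hp
    (fun x' hx' => depthAtGE_fibre f x qS hf ℓ hℓ e he x' hx' _ le_rfl)
  rwa [min_eq_left (by omega)] at h1

/-- At a point of zero-dimensional fibre, the maximal ideal generates the maximal ideal. -/
theorem maximalIdeal_map_of_fibre (hf : EtDepth.IsRegularMor f)
    (he : ringKrullDim ↑(CInt.fiberStalk f x) = 0) :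
    (maximalIdeal (S.presheaf.stalk (f.base x))).map (f.stalkMap x).hom =
      maximalIdeal (X.presheaf.stalk x) := by
  let _ : Algebra (S.presheaf.stalk (f.base x)) (X.presheaf.stalk x) := (f.stalkMap x).hom.toAlgebra
  have hfx : IsLocalHom (algebraMap (S.presheaf.stalk (f.base x)) (X.presheaf.stalk x)) :=
    inferInstanceAs (IsLocalHom (f.stalkMap x).hom)
  have h1 : IsRegularLocalRing (EGA4.FibRing (S.presheaf.stalk (f.base x)) (X.presheaf.stalk x)) :=
    K134.RegFib.isRegularLocalRing_fibRing (hf x)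
  obtain ⟨e⟩ := Flat2D.FiberStalk.nonempty_asFiber_stalkEquiv' f x
  have h2 : ringKrullDim (EGA4.FibRing (S.presheaf.stalk (f.base x)) (X.presheaf.stalk x)) = 0 :=
    (ringKrullDim_eq_of_ringEquiv e).trans he
  have h3 := Groth.Agent.S0558.result (EGA4.FibRing (S.presheaf.stalk (f.base x)) (X.presheaf.stalk x))
  have h4 : Ring.KrullDimLE 0 (EGA4.FibRing (S.presheaf.stalk (f.base x)) (X.presheaf.stalk x)) :=
    Ring.krullDimLE_iff.2 h2.le
  have h5 : IsField (EGA4.FibRing (S.presheaf.stalk (f.base x)) (X.presheaf.stalk x)) :=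
    Ring.KrullDimLE.isField_of_isDomain
  have h6 : ((maximalIdeal (S.presheaf.stalk (f.base x))).map
      (algebraMap (S.presheaf.stalk (f.base x)) (X.presheaf.stalk x))).IsMaximal :=
    Ideal.Quotient.maximal_of_isField _ h5
  exact IsLocalRing.eq_maximalIdeal h6

/-- **Descent of the depth along a regular morphism**, at the points with zero-dimensional fibre. -/
theorem depthAtGE_desc [IsLocallyNoetherian X] (qS : S ⟶ Spec (CommRingCat.of (ULift.{u} ℚ)))
    (hexc : ∀ s : S, EGA4.IsExcellent (S.presheaf.stalk s)) (hf : EtDepth.IsRegularMor f)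
    (F : EtCoh.Ab S) (hF : EtCoh.IsTorsion F)
    (he : ringKrullDim ↑(CInt.fiberStalk f x) = 0) (p : ℕ)
    (hp : EtDepth.DepthAtGE X ((EtCoh.pull f).obj F) x p) :
    EtDepth.DepthAtGE S F (f.base x) p := by
  obtain ⟨B, _, _, τ, hτ, hτx⟩ := exists_isStrictLoc X x
  obtain ⟨A, _, _, σ, β, hσ, hβl, hβ⟩ := exists_over f hτ
  have hs : σ (closedPoint A) = f.base x := by
    have h1 : (spm β ≫ σ) (closedPoint B) = (τ ≫ f) (closedPoint B) := by rw [hβ]
    rw [Scheme.Hom.comp_apply, Scheme.Hom.comp_apply, hτx, TwoOfThree.map_closedPoint] at h1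
    exact h1
  rw [Groth.Agent.Sga2lef.H134.DepthAt.depthAtGE_iff_of_isStrictLoc hσ (f.base x) hs p]
  rw [Groth.Agent.Sga2lef.H134.DepthAt.depthAtGE_iff_of_isStrictLoc hτ x hτx p] at hp
  obtain ⟨_, _, _, hσ'⟩ := exists_specOf hσ (f.base x) hs
  obtain ⟨_, _, _, hτ'⟩ := exists_specOf hτ x hτx
  let _ : Algebra (S.presheaf.stalk (f.base x)) (X.presheaf.stalk x) := (f.stalkMap x).hom.toAlgebra
  have hfx : IsLocalHom (algebraMap (S.presheaf.stalk (f.base x)) (X.presheaf.stalk x)) :=
    inferInstanceAs (IsLocalHom (f.stalkMap x).hom)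
  have hNS : IsNoetherianRing (S.presheaf.stalk (f.base x)) := (hexc (f.base x)).1
  have hNA : IsNoetherianRing A := (Groth.Agent.S0540.result (S.presheaf.stalk (f.base x)) A).1 hNS
  have hNB : IsNoetherianRing B := (Groth.Agent.S0540.result (X.presheaf.stalk x) B).1 inferInstance
  have hcomm : β.comp (algebraMap (S.presheaf.stalk (f.base x)) A) =
      (algebraMap (X.presheaf.stalk x) B).comp (f.stalkMap x).hom := by
    rw [Groth.Agent.Etrest.VCBaseChange.specOf_comm f x A B β, hσ', hτ']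
    exact hβ
  let _ : Algebra A B := β.toAlgebra
  have hreg : CAlg.IsRegularHom A B := isRegularHom_strict (hexc (f.base x)) (hf x) β hβl hcomm
  have hm : (maximalIdeal A).map (algebraMap A B) = maximalIdeal B := by
    have h0 := maximalIdeal_map_of_fibre f x hf he
    rw [← Groth.Agent.S0538.result (X.presheaf.stalk x) B, ← h0, Ideal.map_map,
      ← Groth.Agent.S0538.result (S.presheaf.stalk (f.base x)) A, Ideal.map_map]
    exact congrArg (fun φ => Ideal.map φ (maximalIdeal (S.presheaf.stalk (f.base x)))) hcomm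
  have hfl : Module.Flat A B := hreg.1
  have hlo : IsLocalHom (algebraMap A B) := hβl
  have hff : Module.FaithfullyFlat A B := Module.FaithfullyFlat.of_flat_of_isLocalHom
  have hQ : CharZero (ULift.{u} ℚ) := K555.ULiftQ.charZero
  intro q hq
  let g : Spec (CommRingCat.of B) ⟶ Spec (CommRingCat.of A) := spm β
  obtain ⟨g', sq⟩ : ∃ g' : (FEt.puncturedSpec B).toScheme ⟶ (FEt.puncturedSpec A).toScheme,
      IsPullback g' (FEt.puncturedSpec B).ι (FEt.puncturedSpec A).ι g := by
    rw [← Groth.Agent.Sga2lef.H101.CplDepth.preimage_punctured hm]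
    exact ⟨_, isPullback_morphismRestrict _ _⟩
  have hNSA : TopologicalSpace.NoetherianSpace (Spec (CommRingCat.of A)) :=
    inferInstanceAs (TopologicalSpace.NoetherianSpace (PrimeSpectrum A))
  have hQA : QuasiCompact (FEt.puncturedSpec A).ι := by
    have : TopologicalSpace.NoetherianSpace (FEt.puncturedSpec A).toScheme :=
      (FEt.puncturedSpec A).ι.isOpenEmbedding.isInducing.noetherianSpace
    exact quasiCompact_of_noetherianSpace_source _
  have hbc : BCMor (Spec (CommRingCat.of (ULift.{u} ℚ))) g :=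
    (RegMor.ubc_of_isRegularHom β hreg (σ ≫ qS)).bcMor
  obtain ⟨e⟩ := Groth.Agent.Sga2lef.H101.LocCohBC.nonempty_pull_locCoh_iso hbc sq
    ((EtCoh.pull σ).obj F) (RegBC.isTorsionInvertibleOn_of_isTorsion (ULift.{u} ℚ)
      (Groth.Agent.Etcore.Torsion.isTorsion_pull σ F hF)) q
  have hz : IsZero ((EtCoh.pull g).obj ((EtDual.locCoh (FEt.puncturedSpec A).ι q).obj
      ((EtCoh.pull σ).obj F))) := by
    have e' : (EtCoh.pull (spm β)).obj ((EtCoh.pull σ).obj F) ≅
        (EtCoh.pull τ).obj ((EtCoh.pull f).obj F) :=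
      pullIso hβ F ≪≫ (pullIso (h := τ) (a := f) rfl F).symm
    exact (Sga2lef.H107.DepthSES.DepthGE.of_iso e'.symm hp q hq).of_iso e
  exact Etcore.PullJoint.isZero_of_pull (fun _ : Unit => g)
    (fun x => ⟨(), PrimeSpectrum.comap_surjective_of_faithfullyFlat (A := A) (B := B) x⟩) _ (fun _ => hz)

end Fibre

end K555.DepthReg
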