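import Groth.Agent.Etdl.H860.WayOut
import Groth.Agent.EtDepth.K973.Stmt
import Groth.Agent.Etdl.H860.HSg
import Groth.Agent.Etdl.H424.PullPushPlus
import Groth.Agent.Etdl.H423.ModBasic
import Groth.Agent.Sga4h.BidFin
import Groth.Agent.EtAdic.K833.AcycDesc
import Groth.Agent.Sga4B.DiagB.Null
import Groth.Agent.S3073
import Groth.Agent.S0073
import Groth.Prelude.Def_SixF2

/-!
# Dévissage for vanishing of `Hom(C, K[i])`, `i < n`, on `D^+`
-/

set_option autoImplicit false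
universe u

section

set_option linter.unusedSectionVars false
universe w₁ w₂ v₁ v₂ u₁ u₂
open CategoryTheory CategoryTheory.Limits Pretriangulated

namespace K555.DescTri

open Groth.Agent Groth.Agent.Etdl.H860 Groth.Agent.Etdl.H860.WayOut

section Tri

variable {T : Type u₁} [Category.{v₁} T] [HasZeroObject T] [HasShift T ℤ] [Preadditive T]
  [∀ n : ℤ, (shiftFunctor T n).Additive] [Pretriangulated T]

theorem subsingleton_shift_of_iso {C K L : T} (e : K ≅ L) (i : ℤ) (h : Subsingleton (C ⟶ K⟦i⟧)) :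
    Subsingleton (C ⟶ L⟦i⟧) :=
  (((shiftFunctor T i).mapIso e).symm.homToEquiv).subsingleton

theorem subsingleton_shift_shift {C K : T} (i j k : ℤ) (hk : i + j = k) :
    Subsingleton (C ⟶ (K⟦i⟧)⟦j⟧) ↔ Subsingleton (C ⟶ K⟦k⟧) :=
  (((shiftFunctorAdd' T i j k hk).app K).symm.homToEquiv (Z := C)).subsingleton_congr

theorem sub₂ {C : T} (Δ : Triangle T) (hΔ : Δ ∈ distTriang T) (i : ℤ)
    (h1 : Subsingleton (C ⟶ Δ.obj₁⟦i⟧)) (h3 : Subsingleton (C ⟶ Δ.obj₃⟦i⟧)) :
    Subsingleton (C ⟶ Δ.obj₂⟦i⟧) := by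
  have key : ∀ f : C ⟶ Δ.obj₂⟦i⟧, f = 0 := fun f => by
    obtain ⟨g, hg⟩ := Triangle.coyoneda_exact₂ _ (Triangle.shift_distinguished Δ hΔ i) f
      (h3.elim _ _)
    have hg0 : g = 0 := h1.elim g 0
    rw [hg, hg0]
    exact zero_comp
  exact ⟨fun a b => (key a).trans (key b).symm⟩

theorem sub₃ {C : T} (Δ : Triangle T) (hΔ : Δ ∈ distTriang T) (i : ℤ)
    (h2 : Subsingleton (C ⟶ Δ.obj₂⟦i⟧)) (h1 : Subsingleton (C ⟶ Δ.obj₁⟦i + 1⟧)) :
    Subsingleton (C ⟶ Δ.obj₃⟦i⟧) :=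
  sub₂ Δ.rotate (rot_of_distTriang Δ hΔ) i h2
    ((subsingleton_shift_shift (K := Δ.obj₁) 1 i (i + 1) (by lia)).2 h1)

theorem sub₁ {C : T} (Δ : Triangle T) (hΔ : Δ ∈ distTriang T) (i : ℤ)
    (h3 : Subsingleton (C ⟶ Δ.obj₃⟦i - 1⟧)) (h2 : Subsingleton (C ⟶ Δ.obj₂⟦i⟧)) :
    Subsingleton (C ⟶ Δ.obj₁⟦i⟧) :=
  sub₂ Δ.invRotate (inv_rot_of_distTriang Δ hΔ) i
    ((subsingleton_shift_shift (K := Δ.obj₃) (-1) i (i - 1) (by lia)).2 h3) h2

end Tri

variable {A : Type u₁} [Category.{v₁} A] [Abelian A] [HasDerivedCategory.{w₁} A] [EnoughInjectives A]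
  {B : Type u₂} [Category.{v₂} B] [Abelian B] [HasDerivedCategory.{w₂} B]
  (Φ : DerivedCategory.Plus A ⥤ DerivedCategory.Plus B) [Φ.CommShift ℤ] [Φ.IsTriangulated]
  (C₁ : DerivedCategory.Plus A) (C₂ : DerivedCategory.Plus B)

/-- The dévissage. -/
theorem descent (n : ℤ)
    (h0 : ∀ K : DerivedCategory.Plus A, K.IsGE n → ∀ i < n, Subsingleton (C₁ ⟶ K⟦i⟧))
    (h1 : ∀ M : A, Subsingleton (C₂ ⟶ Φ.obj ((DerivedCategory.Plus.singleFunctor A 0).obj M)) →
      ∀ k : ℤ, Subsingleton (C₁ ⟶ sg k M))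
    (h2 : ∀ M : A, ∀ k : ℤ, k ≠ 0 →
      Subsingleton (C₂ ⟶ (Φ.obj ((DerivedCategory.Plus.singleFunctor A 0).obj M))⟦k⟧))
    (h3 : ∀ (a : ℤ) (K : DerivedCategory.Plus A), K.IsGE a → ∀ i < a, Subsingleton (C₂ ⟶ (Φ.obj K)⟦i⟧))
    (K : DerivedCategory.Plus A) (hK : ∀ i < n, Subsingleton (C₂ ⟶ (Φ.obj K)⟦i⟧)) :
    ∀ i < n, Subsingleton (C₁ ⟶ K⟦i⟧) := by
  obtain ⟨a, ha⟩ : ∃ a : ℤ, K.IsGE a := by
    obtain ⟨a, ha⟩ := K.property
    exact ⟨a, (K.isGE_ι_obj_iff a).1 ha⟩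
  suffices H : ∀ (d : ℕ) (a : ℤ) (_ : n ≤ a + d) (K : DerivedCategory.Plus A) (_ : K.IsGE a)
      (_ : ∀ i < n, Subsingleton (C₂ ⟶ (Φ.obj K)⟦i⟧)), ∀ i < n, Subsingleton (C₁ ⟶ K⟦i⟧) from
    H (n - a).toNat a (by lia) K ha hK
  intro d
  induction d with
  | zero =>
    intro a hn K ha _
    exact h0 K (DerivedCategory.Plus.TStructure.t.isGE_of_ge _ n a (by simpa using hn))
  | succ d ih =>
    intro a hn K ha hK i hi
    by_cases han : n ≤ a
    · exact h0 K (DerivedCategory.Plus.TStructure.t.isGE_of_ge _ n a han) i hi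
    obtain ⟨P, Q, hP, hQ, f, g, h, hΔ⟩ :=
      DerivedCategory.Plus.TStructure.t.exists_triangle K a (a + 1) rfl
    have hP1 : P.IsLE a := ⟨hP⟩
    have hQ1 : Q.IsGE (a + 1) := ⟨hQ⟩
    have hP2 : P.IsGE a := by
      refine DerivedCategory.Plus.TStructure.t.isGE₂ _ (inv_rot_of_distTriang _ hΔ) a ?_ ha
      have := DerivedCategory.Plus.TStructure.t.isGE_shift Q (a + 1) (-1) (a + 2) (by lia)
      exact DerivedCategory.Plus.TStructure.t.isGE_of_ge (Q⟦(-1 : ℤ)⟧) a (a + 2) (by lia)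
    obtain ⟨M, ⟨e⟩⟩ := exists_iso_sg P a hP2 hP1
    have hΔ' := Φ.map_distinguished _ hΔ
    -- the functor on `P`
    let e' : Φ.obj P ≅ (Φ.obj ((DerivedCategory.Plus.singleFunctor A 0).obj M))⟦-a⟧ :=
      Φ.mapIso e ≪≫ (Φ.commShiftIso (-a)).app _
    have hα : ∀ j : ℤ, j ≠ a → Subsingleton (C₂ ⟶ (Φ.obj P)⟦j⟧) := fun j hj =>
      subsingleton_shift_of_iso e'.symm j ((subsingleton_shift_shift (-a) j (j - a) (by lia)).2
        (h2 M (j - a) (by lia)))
    have hβ : Subsingleton (C₂ ⟶ (Φ.obj P)⟦a⟧) :=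
      sub₁ _ hΔ' a (h3 (a + 1) Q hQ1 (a - 1) (by lia)) (hK a (by lia))
    have hM : Subsingleton (C₂ ⟶ Φ.obj ((DerivedCategory.Plus.singleFunctor A 0).obj M)) := by
      have h5 := (subsingleton_shift_shift (-a) a 0 (by lia)).1 (subsingleton_shift_of_iso e' a hβ)
      exact (((shiftFunctorZero (DerivedCategory.Plus B) ℤ).app _).homToEquiv).symm.subsingleton
    have hPi : ∀ j : ℤ, Subsingleton (C₁ ⟶ P⟦j⟧) := fun j =>
      subsingleton_shift_of_iso e.symm j ((subsingleton_shift_shift (-a) j (j - a) (by lia)).2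
        (h1 M hM (j - a)))
    have hall : ∀ j : ℤ, Subsingleton (C₂ ⟶ (Φ.obj P)⟦j⟧) := fun j => by
      by_cases hj : j = a
      · rw [hj]; exact hβ
      · exact hα j hj
    have hQK : ∀ j < n, Subsingleton (C₂ ⟶ (Φ.obj Q)⟦j⟧) := fun j hj =>
      sub₃ _ hΔ' j (hK j hj) (hall (j + 1))
    have hQ2 := ih (a + 1) (by push_cast at hn; lia) Q hQ1 hQK i hi
    exact sub₂ _ hΔ i (hPi i) hQ2

end K555.DescTri

end

/-!
# Descent of `HypVanish`

* `hypVanish_of_iso`, `hypVanish_push_iff`: isomorphisms and direct images;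
* `subsingleton_hom_sg_iff`: `Hom(Λ, M[q]) = H^q(X, M)`;
* `hypVanish_descent`: from a strictly henselian local ring to a henselian local ring.
-/

section

open CategoryTheory CategoryTheory.Limits AlgebraicGeometry Opposite Pretriangulated
attribute [local instance] HasDerivedCategory.standard

namespace K555.DescVan

open Groth.Agent Groth.Agent.Etdl.H860 Groth.Agent.Etdl.H860.WayOut K973.Stmt

variable {m : ℕ} {X Y : Scheme.{u}}

/-- The object `Λ_X` of `D^+`. -/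
noncomputable abbrev cst (m : ℕ) (X : Scheme.{u}) : DerivedCategory.Plus (EtModW.Mod (Lam.{u} m) X) :=
  (DerivedCategory.Plus.singleFunctor (EtModW.Mod (Lam.{u} m) X) 0).obj (EtModW.constMod (Lam.{u} m) X (Lam.{u} m))

theorem hypVanish_of_iso {K L : DerivedCategory.Plus (EtModW.Mod (Lam.{u} m) X)} (e : K ≅ L) {n : ℕ}
    (h : HypVanish m K n) : HypVanish m L n :=
  ⟨fun i hi => by
    have := h.out i hi
    exact (((shiftFunctor _ i).mapIso e).symm.homToEquiv).subsingleton⟩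

/-- `f^* Λ = Λ`. -/
noncomputable def pullCst (f : X ⟶ Y) : (EtDl.pullPlus (Lam.{u} m) f).obj (cst m Y) ≅ cst m X :=
  (HSg.singleExact (EtModW.pull (Lam.{u} m) f)).app _ ≪≫
    (DerivedCategory.Plus.singleFunctor (EtModW.Mod (Lam.{u} m) X) 0).mapIso (EtSix.pullConstΛ (Lam.{u} m) f)

/-- Cohomology of a direct image. -/
theorem hypVanish_push_iff (f : X ⟶ Y) (K : DerivedCategory.Plus (EtModW.Mod (Lam.{u} m) X)) (n : ℕ) :
    HypVanish m ((EtDl.pushPlus (Lam.{u} m) f).obj K) n ↔ HypVanish m K n := by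
  have key : ∀ i : ℤ, Nonempty ((cst m Y ⟶ ((EtDl.pushPlus (Lam.{u} m) f).obj K)⟦i⟧) ≃ (cst m X ⟶ K⟦i⟧)) := fun i =>
    ⟨((((EtDl.pushPlus (Lam.{u} m) f).commShiftIso i).app K).homToEquiv (Z := cst m Y)).symm.trans
      (((Etdl.H424.PullPushPlus.adj (Lam.{u} m) f).homEquiv (cst m Y) (K⟦i⟧)).symm.trans
        ((pullCst f).homFromEquiv))⟩
  constructor
  · intro h
    refine ⟨fun i hi => ?_⟩
    obtain ⟨e⟩ := key i
    have := h.out i hi
    exact e.symm.subsingleton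
  · intro h
    refine ⟨fun i hi => ?_⟩
    obtain ⟨e⟩ := key i
    have := h.out i hi
    exact e.subsingleton

/-- `Hom(Λ, M[q]) = H^q(X, M)`. -/
theorem subsingleton_hom_sg_iff (M : EtModW.Mod (Lam.{u} m) X) (q : ℕ) :
    Subsingleton (cst m X ⟶ sg (q : ℤ) M) ↔
      Subsingleton (EtCoh.H X ((EtModD.forgetToAb (Lam.{u} m) X).obj M) q) := by
  let e1 : (cst m X ⟶ sg (q : ℤ) M) ≃
      (DerivedCategory.Plus.ι.obj (cst m X) ⟶ DerivedCategory.Plus.ι.obj (sg (q : ℤ) M)) :=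
    DerivedCategory.TStructure.t.plus.fullyFaithfulι.homEquiv
  let e2 : (DerivedCategory.Plus.ι.obj (cst m X) ⟶ DerivedCategory.Plus.ι.obj (sg (q : ℤ) M)) ≃
      (DerivedCategory.Plus.ι.obj (cst m X) ⟶ (DerivedCategory.Plus.ι.obj
        ((DerivedCategory.Plus.singleFunctor _ 0).obj M))⟦(q : ℤ)⟧) :=
    ((DerivedCategory.Plus.ι.commShiftIso (q : ℤ)).app _).homToEquiv
  let e3 : Abelian.Ext.{u + 1} (EtModW.constMod (Lam.{u} m) X (Lam.{u} m)) M q ≃
      (DerivedCategory.Plus.ι.obj (cst m X) ⟶ (DerivedCategory.Plus.ι.obj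
        ((DerivedCategory.Plus.singleFunctor _ 0).obj M))⟦(q : ℤ)⟧) := Abelian.Ext.homEquiv
  exact (e1.trans (e2.trans e3.symm)).subsingleton_congr.trans
      (Groth.Agent.Sga4h.BidFin.extConstEquiv (Lam.{u} m) M q).subsingleton_congr

theorem subsingleton_hom_of_isGE (K : DerivedCategory.Plus (EtModW.Mod (Lam.{u} m) X)) (a i : ℤ) (hi : i < a)
    (hK : K.IsGE a) : Subsingleton (cst m X ⟶ K⟦i⟧) := by
  have h1 : (cst m X).IsLE 0 := inferInstance
  have h2 : (K⟦i⟧).IsGE (a - i) := DerivedCategory.Plus.TStructure.t.isGE_shift K a i (a - i) (by lia)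
  have key : ∀ f : cst m X ⟶ K⟦i⟧, f = 0 := fun f =>
    DerivedCategory.Plus.TStructure.t.zero_of_isLE_of_isGE f 0 (a - i) (by lia) h1 h2
  exact ⟨fun f g => (key f).trans (key g).symm⟩

section Local

variable {A B : Type u} [CommRing A] [CommRing B] [HenselianLocalRing A] [HenselianLocalRing B]
  [IsSepClosed (IsLocalRing.ResidueField B)] (φ : A →+* B) [IsLocalHom φ]

/-- A sheaf on a henselian local scheme whose inverse image on a strictly henselian local scheme has no sections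
has no cohomology. -/
theorem subsingleton_H_of_pull (F : EtCoh.Ab (Spec (CommRingCat.of A)))
    (h : Subsingleton (EtCoh.H (Spec (CommRingCat.of B)) ((EtCoh.pull (Spec.map (CommRingCat.ofHom φ))).obj F) 0))
    (q : ℕ) : Subsingleton (EtCoh.H (Spec (CommRingCat.of A)) F q) := by
  let a := Spec.map (CommRingCat.ofHom φ)
  let rA := Spec.map (CommRingCat.ofHom (IsLocalRing.residue A))
  let rB := Spec.map (CommRingCat.ofHom (IsLocalRing.residue B))
  let c := Spec.map (CommRingCat.ofHom (IsLocalRing.ResidueField.map φ))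
  have hA : PreservesFiniteLimits (EtCoh.pull rA) := Groth.Agent.S0101.result _
  have hB : PreservesFiniteLimits (EtCoh.pull rB) := Groth.Agent.S0101.result _
  have hc : c ≫ rA = rB ≫ a := by
    rw [← Spec.map_comp, ← Spec.map_comp]
    congr 1
  have h1 : Subsingleton (EtCoh.H _ ((EtCoh.pull rB).obj ((EtCoh.pull a).obj F)) 0) :=
    (Equiv.ofBijective _ (Groth.Agent.S3073.result B ((EtCoh.pull a).obj F) 0)).symm.subsingleton
  have h2 : IsZero ((EtCoh.pull rB).obj ((EtCoh.pull a).obj F)) :=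
    Groth.Agent.Sga4B.DiagB.isZero_of_hom_const _ _ (fun f =>
      (Abelian.Ext.homEquiv₀.symm.subsingleton (α := (_ ⟶ _))).elim f 0)
  have h3 : IsZero ((EtCoh.pull c).obj ((EtCoh.pull rA).obj F)) :=
    h2.of_iso (((EtCore.pullComp c rA).symm ≪≫ EtCore.pullCongr hc ≪≫ EtCore.pullComp rB a).app F)
  have hs : Surjective c := ⟨fun x => ⟨IsLocalRing.closedPoint _, Subsingleton.elim _ _⟩⟩
  have h4 : IsZero ((EtCoh.pull rA).obj F) := K833.AcycDesc.isZero_of_pull c _ h3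
  have h5 : Subsingleton (EtCoh.H _ ((EtCoh.pull rA).obj F) q) := by
    have h6 : ∀ x : EtCoh.H _ ((EtCoh.pull rA).obj F) q, x = 0 := fun x => by
      have h7 : (EtCoh.HF _ q).map (𝟙 ((EtCoh.pull rA).obj F)) = 0 := by
        rw [h4.eq_of_src (𝟙 _) 0, Functor.map_zero]
      rw [CategoryTheory.Functor.map_id] at h7
      exact congrArg (fun t => t.hom x) h7
    exact ⟨fun x y => (h6 x).trans (h6 y).symm⟩
  exact (Equiv.ofBijective _ (Groth.Agent.S3073.result A F q)).subsingleton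

/-- **Descent of vanishing** from a strictly henselian local ring to a henselian local ring. -/
theorem hypVanish_descent (K : DerivedCategory.Plus (EtModW.Mod (Lam.{u} m) (Spec (CommRingCat.of A)))) (n : ℕ)
    (h : HypVanish m ((EtDl.pullPlus (Lam.{u} m) (Spec.map (CommRingCat.ofHom φ))).obj K) n) :
    HypVanish m K n := by
  let a := Spec.map (CommRingCat.ofHom φ)
  have e0 : ∀ M : EtModW.Mod (Lam.{u} m) (Spec (CommRingCat.of A)),
      (EtDl.pullPlus (Lam.{u} m) a).obj ((DerivedCategory.Plus.singleFunctor _ 0).obj M) ≅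
        (DerivedCategory.Plus.singleFunctor _ 0).obj ((EtModW.pull (Lam.{u} m) a).obj M) := fun M =>
    (HSg.singleExact (EtModW.pull (Lam.{u} m) a)).app M
  have eab : ∀ M : EtModW.Mod (Lam.{u} m) (Spec (CommRingCat.of A)),
      (EtModD.forgetToAb _ _).obj ((EtModW.pull (Lam.{u} m) a).obj M) ≅
        (EtCoh.pull a).obj ((EtModD.forgetToAb _ _).obj M) := fun M => (Etrest.ModAb.pullIso (Lam.{u} m) a).app M
  refine ⟨DescTri.descent (EtDl.pullPlus (Lam.{u} m) a) (cst m _) (cst m _) n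
    (fun K hK i hi => subsingleton_hom_of_isGE K n i hi hK) (fun M hM k => ?_) (fun M k hk => ?_)
    (fun b K hK i hi => subsingleton_hom_of_isGE _ b i hi
      (Groth.Agent.Etdl.H441.InjAmp.isGE_rightDerivedFunctorPlus_obj _ K b)) K (fun i hi => h.out i hi)⟩
  · rcases lt_or_ge k 0 with hk | hk
    · exact subsingleton_hom_of_isGE _ 0 k hk inferInstance
    · obtain ⟨q, rfl⟩ := Int.eq_ofNat_of_zero_le hk
      rw [subsingleton_hom_sg_iff]
      refine subsingleton_H_of_pull φ _ ?_ q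
      have h1 : Subsingleton (cst m _ ⟶ sg ((0 : ℕ) : ℤ) ((EtModW.pull (Lam.{u} m) a).obj M)) := by
        have e1 : (EtDl.pullPlus (Lam.{u} m) a).obj ((DerivedCategory.Plus.singleFunctor _ 0).obj M) ≅
            sg ((0 : ℕ) : ℤ) ((EtModW.pull (Lam.{u} m) a).obj M) :=
          e0 M ≪≫ ((shiftFunctorZero _ ℤ).app _).symm
        exact e1.symm.homToEquiv.subsingleton
      rw [subsingleton_hom_sg_iff] at h1
      exact Groth.Agent.Sga4B.HTools.subsingleton_H_of_iso (eab M) 0 h1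
  · refine DescTri.subsingleton_shift_of_iso (e0 M).symm k ?_
    rcases lt_or_ge k 0 with hk' | hk'
    · exact subsingleton_hom_of_isGE _ 0 k hk' inferInstance
    · obtain ⟨q, rfl⟩ := Int.eq_ofNat_of_zero_le hk'
      exact (subsingleton_hom_sg_iff _ q).2 (Groth.Agent.S0073.result B _ q (by lia))

end Local

end K555.DescVan

end
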