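import Groth.Agent.EtDl.K555.RegBC
import Groth.Agent.EtDl.K593.BCPlus
import Groth.Agent.Etrest.PBC
import Groth.Agent.Etsix.H627.BcTors
import Groth.Agent.EtDepth.K555.DescVan
import Groth.Agent.EtDepth.K555.DepthReg
import Groth.Agent.EtDl.K593.IndepPlus
import Groth.Agent.EtDepth.K973.Stmt

/-!
# Base change on `D^+` for sheaves of modules, from base change for torsion sheaves

* `TorBC`: base change for torsion sheaves along a square;
* `isIso_bcMapMod`: base change for bounded-below complexes of `Λ`-modules with torsion cohomology.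
-/

set_option autoImplicit false
universe u

section

open CategoryTheory CategoryTheory.Limits AlgebraicGeometry Opposite

attribute [local instance] HasDerivedCategory.standard

namespace K555.RegPlus

open Groth.Agent Groth.Agent.Etrest Groth.Agent.Etrest.Tors Groth.Agent.Etrest.TorsEt Groth.Agent.Etrest.TorsCx
  Groth.Agent.Etrest.RDer2 Groth.Agent.Etrest.RDer3 Groth.Agent.Etrest.RDer4 Groth.Agent.Etrest.RDer5
  Groth.Agent.Etrest.DEtPush

variable {X Y X' Y' : Scheme.{u}} {f : X ⟶ Y} {g : Y' ⟶ Y} {f' : X' ⟶ Y'} {g' : X' ⟶ X}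

/-- Base change for torsion sheaves. -/
def TorBC (w : g' ≫ f = f' ≫ g) : Prop :=
  ∀ F : EtCoh.Ab X, EtCoh.IsTorsion F →
    (∀ q : ℕ, Nonempty ((EtCoh.pull g).obj ((EtCoh.Rpush f q).obj F) ≅
      (EtCoh.Rpush f' q).obj ((EtCoh.pull g').obj F))) ∧
    IsIso (EtCoh.baseChange0 f g f' g' w F)

/-- Torsion parts of injectives are acyclic after inverse image. -/
theorem isAcyc_pull_tor [QuasiCompact f] [QuasiSeparated f] {w : g' ≫ f = f' ≫ g} (hw : TorBC w)
    (I : EtCoh.Ab X) [Injective I] :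
    IsAcyc (EtCoh.push f') ((EtCoh.pull g').obj (tor.obj I)) := by
  intro n
  obtain ⟨e⟩ := (hw (tor.obj I) (isTorsion_tor I)).1 (n + 1)
  exact ((EtCoh.pull g).map_isZero (DCompEt.isAcyc_push_tor f I n)).of_iso e.symm

/-- Base change on `D^+_tors` (abelian sheaves). -/
theorem isIso_bcEt [QuasiCompact f] [QuasiSeparated f] {w : g' ≫ f = f' ≫ g} (hw : TorBC w) (K : DCoh.DEt X)
    (hb : ∃ a : ℤ, ∀ n : ℤ, n < a → IsZero (DCoh.HDEt K n))
    (ht : ∀ n : ℤ, EtCoh.IsTorsion (DCoh.HDEt K n)) : IsIso ((bcEt w).app K) := by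
  obtain ⟨a, ha⟩ := hb
  obtain ⟨I, hI, hinj, -, ⟨e⟩⟩ := exists_torsion_resolution
    (fun I _ => InjDiv.isDivisible_of_injective I) K a (DCompEt.isGE_of K a ha)
    (fun n => isZero_rat_of_isTorsion _ (ht n))
  have := isStrictlyGE_tor I a
  refine isIso_bcD_of_iso _ e.symm (isIso_bcD_Q_of_isAcyc _ _ a (fun i => ?_) (fun i => ?_) (fun i => ?_))
  · have := hinj i
    exact DCompEt.isAcyc_push_tor f (I.X i)
  · have := hinj i
    exact isAcyc_pull_tor hw (I.X i)
  · exact (hw (tor.obj (I.X i)) (isTorsion_tor _)).2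

/-- Base change on `D^+` (sheaves of `Λ`-modules), torsion cohomology. -/
theorem isIso_bcMapMod [QuasiCompact f] [QuasiSeparated f] {w : g' ≫ f = f' ≫ g} (hw : TorBC w)
    (Λ : Type (u + 1)) [CommRing Λ]
    (adj : EtDl.pullPlus Λ g ⊣ EtDl.pushPlus Λ g)
    (K : DerivedCategory.Plus (EtModW.Mod Λ X))
    (hK : ∀ i : ℤ, EtCoh.IsTorsion ((EtModD.forgetToAb Λ X).obj
      ((DerivedCategory.Plus.homologyFunctor (EtModW.Mod Λ X) i).obj K))) :
    IsIso (EtSix.bcMapMod Λ f g f' g' w adj K) := by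
  refine Groth.Agent.Etsix.H627.BcModAb.isIso_bcMapMod w adj K (fun L ⟨e⟩ => ?_)
  have e1 : ∀ n : ℤ, DCoh.HDEt (DerivedCategory.Q.obj (Groth.Agent.Etsix.H627.BcModAb.abCx L.obj)) n ≅
      (EtModD.forgetToAb Λ X).obj
        ((DerivedCategory.Plus.homologyFunctor (EtModW.Mod Λ X) n).obj K) := fun n =>
    Groth.Agent.Etsix.H627.BcTors.homIso L n ≪≫ (EtModD.forgetToAb Λ X).mapIso
      ((DerivedCategory.Plus.homologyFunctor (EtModW.Mod Λ X) n).mapIso e)
  obtain ⟨a, ha⟩ := L.property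
  have h1 : (Groth.Agent.Etsix.H627.BcModAb.abCx L.obj).IsStrictlyGE a := inferInstance
  refine isIso_bcEt hw _ ⟨a, fun n hn => ?_⟩ (fun n => ?_)
  · exact ((Groth.Agent.Etsix.H627.BcModAb.abCx L.obj).exactAt_of_isGE a n hn).isZero_homology.of_iso
      ((DerivedCategory.homologyFunctorFactors (EtCoh.Ab X) n).app _)
  · exact Groth.Agent.Etrest.TorsEt.isTorsion_of_iso (e1 n).symm (hK n)

/-- The base change isomorphism of functors, `Λ` torsion. -/
noncomputable def bcIso [QuasiCompact f] [QuasiSeparated f] {w : g' ≫ f = f' ≫ g} (hw : TorBC w)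
    (Λ : Type (u + 1)) [CommRing Λ] (n : ℕ) (hn : 0 < n) (hΛ : (n : Λ) = 0) :
    EtDl.pushPlus Λ f ⋙ EtDl.pullPlus Λ g ≅ EtDl.pullPlus Λ g' ⋙ EtDl.pushPlus Λ f' :=
  K593.BCPlus.bcNatIso Λ f g f' g' w (Groth.Agent.Etdl.H424.PullPushPlus.adj Λ g)
    (fun K => isIso_bcMapMod hw Λ _ K (fun _ => Groth.Agent.Etdl.H423.ModBasic.isTorsion_ab Λ n hn hΛ _))

open Groth.Agent.EtpbcB.BCU in
/-- `TorBC` from universal base change over a field of characteristic zero. -/
theorem torBC_of_bcMor (k : Type u) [Field k] [CharZero k] (f : X ⟶ Y)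
    [QuasiCompact f] [QuasiSeparated f] (g : Y' ⟶ Y) (hg : BCMor (Spec (CommRingCat.of k)) g) (f' : X' ⟶ Y')
    (g' : X' ⟶ X) (h : IsPullback g' f' f g) : TorBC h.w :=
  fun F hF => hg f f' g' h F (K555.RegBC.isTorsionInvertibleOn_of_isTorsion k hF)

end K555.RegPlus

end

/-!
# Base change of `R κ_* κ^* G` and of `R f_!`
-/

section

open CategoryTheory CategoryTheory.Limits AlgebraicGeometry Opposite
attribute [local instance] HasDerivedCategory.standard

namespace K555.OpenPush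

open Groth.Agent Groth.Agent.Etdl.H860 K973.Stmt

variable {m : ℕ} (hm : 0 < m)

theorem natCast_lam (m : ℕ) : ((m : ℕ) : Lam.{u} m) = 0 := by
  apply ULift.ext
  change (((m : ULift.{u + 1} (ZMod m))).down) = 0
  rw [ULift.down_natCast]
  exact CharP.cast_eq_zero _ _

include hm in
open Groth.Agent.EtpbcB.BCU in
/-- Base change of `R κ_* κ^* G`. -/
theorem nonempty_pull_openPush (k : Type u) [Field k] [CharZero k] {L L' : Scheme.{u}} (h : L' ⟶ L)
    (hh : BCMor (Spec (CommRingCat.of k)) h) (W : L.Opens) [QuasiCompact W.ι] (G : EtModW.Mod (Lam.{u} m) L) :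
    Nonempty ((EtDl.pullPlus (Lam.{u} m) h).obj (openPush m W G) ≅
      openPush m (h ⁻¹ᵁ W) ((EtModW.pull (Lam.{u} m) h).obj G)) := by
  have sq : IsPullback (h ∣_ W) (h ⁻¹ᵁ W).ι W.ι h := isPullback_morphismRestrict h W
  let M := (EtModW.pull (Lam.{u} m) W.ι).obj G
  let e1 := (RegPlus.bcIso (RegPlus.torBC_of_bcMor k W.ι h hh _ _ sq) (Lam.{u} m) m hm (natCast_lam m)).app
    ((DerivedCategory.Plus.singleFunctor (EtModW.Mod (Lam.{u} m) W.toScheme) 0).obj M)
  let e2 := (EtDl.pushPlus (Lam.{u} m) (h ⁻¹ᵁ W).ι).mapIso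
    ((HSg.singleExact (EtModW.pull (Lam.{u} m) (h ∣_ W))).app M)
  let e3 : (EtModW.pull (Lam.{u} m) (h ∣_ W)).obj M ≅
      (EtModW.pull (Lam.{u} m) (h ⁻¹ᵁ W).ι).obj ((EtModW.pull (Lam.{u} m) h).obj G) :=
    ((EtSix.pullModComp (Lam.{u} m) (h ∣_ W) W.ι).symm ≪≫ EtSix.pullModCongr (Lam.{u} m) sq.w ≪≫
      EtSix.pullModComp (Lam.{u} m) (h ⁻¹ᵁ W).ι h).app G
  exact ⟨e1 ≪≫ e2 ≪≫ (EtDl.pushPlus (Lam.{u} m) (h ⁻¹ᵁ W).ι).mapIso
    ((DerivedCategory.Plus.singleFunctor _ 0).mapIso e3)⟩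

/-- The base change of a compactification. -/
noncomputable def cptBC {L S' L' T : Scheme.{u}} {f : L ⟶ S'} {g : T ⟶ S'} {f' : L' ⟶ T} {h : L' ⟶ L}
    (H : IsPullback h f' f g) (c : DEt.Compactification f) : DEt.Compactification f' := by
  let i : L' ⟶ pullback c.fbar g := pullback.lift (h ≫ c.j) f' (by
    rw [Category.assoc, c.fac, H.w])
  have hi1 : i ≫ pullback.fst c.fbar g = h ≫ c.j := pullback.lift_fst _ _ _
  have hi2 : i ≫ pullback.snd c.fbar g = f' := pullback.lift_snd _ _ _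
  have sq2 : IsPullback (pullback.fst c.fbar g) (pullback.snd c.fbar g) c.fbar g :=
    IsPullback.of_hasPullback _ _
  have sq1 : IsPullback h i c.j (pullback.fst c.fbar g) :=
    IsPullback.of_bot (by rw [hi2, c.fac]; exact H) hi1.symm sq2
  have : IsOpenImmersion i := MorphismProperty.of_isPullback sq1 (inferInstance : IsOpenImmersion c.j)
  exact
    { Xbar := pullback c.fbar g
      j := i
      fbar := pullback.snd c.fbar g
      isOpenImmersion := inferInstance
      isProper := inferInstance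
      fac := hi2 }

end K555.OpenPush

end
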